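import Groth.Agent.L25.UnipExt
import Groth.Agent.L25.HopfFlatGen
import Groth.Agent.L08.Points
import Mathlib.Algebra.Polynomial.Taylor
import Mathlib.Algebra.Polynomial.Degree.Lemmas
import Mathlib.Algebra.Polynomial.FieldDivision

/-!
# Auxiliary facts for splitting extensions by unipotent groups
-/

set_option autoImplicit false

universe u

open TensorProduct WithConv Groth.L08

noncomputable section

namespace Groth.L01.UnipSplit

variable {k : Type u} [Field k] {A : Type u} [CommRing A] [HopfAlgebra k A]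

theorem post_mul {R S : Type u} [CommRing R] [CommRing S] [Algebra k R] [Algebra k S] (f : R →ₐ[k] S)
    (g h : WithConv (A →ₐ[k] R)) :
    toConv (f.comp (g * h).ofConv) = toConv (f.comp g.ofConv) * toConv (f.comp h.ofConv) :=
  WithConv.ofConv_injective (AlgHom.comp_convMul_distrib f g h)

theorem post_one {R S : Type u} [CommRing R] [CommRing S] [Algebra k R] [Algebra k S] (f : R →ₐ[k] S) :
    toConv (f.comp (1 : WithConv (A →ₐ[k] R)).ofConv) = 1 :=
  WithConv.ofConv_injective (AlgHom.ext fun a => by simp [AlgHom.convOne_apply])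

theorem pre_mul {A' R : Type u} [CommRing A'] [HopfAlgebra k A'] [CommRing R] [Algebra k R]
    (φ : A' →ₐc[k] A) (g h : WithConv (A →ₐ[k] R)) :
    toConv ((g * h).ofConv.comp (φ : A' →ₐ[k] A)) =
      toConv (g.ofConv.comp (φ : A' →ₐ[k] A)) * toConv (h.ofConv.comp (φ : A' →ₐ[k] A)) :=
  WithConv.ofConv_injective (AlgHom.convMul_comp_bialgHom_distrib g h φ)

theorem pre_one {A' R : Type u} [CommRing A'] [HopfAlgebra k A'] [CommRing R] [Algebra k R]
    (φ : A' →ₐc[k] A) : toConv ((1 : WithConv (A →ₐ[k] R)).ofConv.comp (φ : A' →ₐ[k] A)) = 1 :=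
  WithConv.ofConv_injective (AlgHom.ext fun a =>
    congrArg (algebraMap k R) (CoalgHomClass.counit_comp_apply φ a))

theorem pre_pinv {A' R : Type u} [CommRing A'] [HopfAlgebra k A'] [CommRing R] [Algebra k R]
    (φ : A' →ₐc[k] A) (g : WithConv (A →ₐ[k] R)) :
    toConv ((pinv g).ofConv.comp (φ : A' →ₐ[k] A)) = pinv (toConv (g.ofConv.comp (φ : A' →ₐ[k] A))) :=
  WithConv.ofConv_injective (AlgHom.ext fun a =>
    congrArg g.ofConv (Groth.L25.Char.bialgHom_antipode φ a).symm)

theorem pinv_one {R : Type u} [CommRing R] [Algebra k R] : pinv (1 : WithConv (A →ₐ[k] R)) = 1 :=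
  left_inv_eq_right_inv (pinv_mul 1) (one_mul 1)

theorem eval_incl {B C : Type u} [CommRing B] [CommRing C] [Algebra k B] [Algebra k C]
    (f : A →ₐ[k] B) (g : A →ₐ[k] C) (x : A) :
    (toConv ((Algebra.TensorProduct.includeLeft : B →ₐ[k] B ⊗[k] C).comp f) *
      toConv ((Algebra.TensorProduct.includeRight : C →ₐ[k] B ⊗[k] C).comp g)).ofConv x =
      TensorProduct.map f.toLinearMap g.toLinearMap (Coalgebra.comul (R := k) x) := by
  rw [AlgHom.convMul_apply]
  induction Coalgebra.comul (R := k) x with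
  | zero => simp
  | add p q hp hq => simp only [map_add, hp, hq]
  | tmul p q => simp

/-- The points of the kernel of `Spec A → Spec B`. -/
def IsKer {B : Type u} [CommRing B] [HopfAlgebra k B] (ψ : B →ₐc[k] A) {R : Type u} [CommRing R]
    [Algebra k R] (n : WithConv (A →ₐ[k] R)) : Prop :=
  toConv (n.ofConv.comp (ψ : B →ₐ[k] A)) = 1

section Ker

variable {B : Type u} [CommRing B] [HopfAlgebra k B] {ψ : B →ₐc[k] A} {R : Type u} [CommRing R] [Algebra k R]

theorem IsKer.apply {n : WithConv (A →ₐ[k] R)} (h : IsKer ψ n) (b : B) :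
    n.ofConv (ψ b) = algebraMap k R (Coalgebra.counit (R := k) b) := by
  have := congrArg (fun z : WithConv (B →ₐ[k] R) => z.ofConv b) h
  simpa [AlgHom.convOne_apply] using this

theorem IsKer.one : IsKer ψ (1 : WithConv (A →ₐ[k] R)) := pre_one ψ

theorem IsKer.mul {n m : WithConv (A →ₐ[k] R)} (h : IsKer ψ n) (h' : IsKer ψ m) : IsKer ψ (n * m) := by
  rw [IsKer, pre_mul, h, h', one_mul]

theorem IsKer.pinv {n : WithConv (A →ₐ[k] R)} (h : IsKer ψ n) : IsKer ψ (pinv n) := by
  rw [IsKer, pre_pinv, h, pinv_one]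

theorem IsKer.post {S : Type u} [CommRing S] [Algebra k S] {n : WithConv (A →ₐ[k] R)} (h : IsKer ψ n)
    (f : R →ₐ[k] S) : IsKer ψ (toConv (f.comp n.ofConv)) := by
  refine WithConv.ofConv_injective (AlgHom.ext fun b => ?_)
  show f (n.ofConv (ψ b)) = _
  rw [h.apply, AlgHom.commutes, AlgHom.convOne_apply]

theorem IsKer.conj {n : WithConv (A →ₐ[k] R)} (h : IsKer ψ n) (g : WithConv (A →ₐ[k] R)) :
    IsKer ψ (Groth.L08.pinv g * n * g) := by
  rw [IsKer, pre_mul, pre_mul, h, mul_one, pre_pinv, pinv_mul]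

theorem isKer_of_agree (g g' : WithConv (A →ₐ[k] R))
    (h : ∀ b, g.ofConv (ψ b) = g'.ofConv (ψ b)) : IsKer ψ (Groth.L08.pinv g * g') := by
  have e : toConv (g'.ofConv.comp (ψ : B →ₐ[k] A)) = toConv (g.ofConv.comp (ψ : B →ₐ[k] A)) :=
    WithConv.ofConv_injective (AlgHom.ext fun b => (h b).symm)
  rw [IsKer, pre_mul, pre_pinv, e, pinv_mul]

theorem isKer_mk (J : Ideal A)
    (hJ : J = Ideal.map (ψ : B →+* A) (RingHom.ker (Bialgebra.counitAlgHom k B))) :
    IsKer ψ (toConv (Ideal.Quotient.mkₐ k J)) := by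
  refine WithConv.ofConv_injective (AlgHom.ext fun b => ?_)
  show Ideal.Quotient.mkₐ k J (ψ b) = _
  rw [AlgHom.convOne_apply, ← AlgHom.commutes (Ideal.Quotient.mkₐ k J), Ideal.Quotient.mkₐ_eq_mk,
    Ideal.Quotient.eq]
  have h1 : ψ b - algebraMap k A (Coalgebra.counit (R := k) b) =
      ψ (b - algebraMap k B (Coalgebra.counit (R := k) b)) := by
    rw [map_sub]
    exact congrArg _ ((ψ : B →ₐ[k] A).commutes _).symm
  have h2 : b - algebraMap k B (Coalgebra.counit (R := k) b) ∈ RingHom.ker (Bialgebra.counitAlgHom k B) := by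
    rw [RingHom.mem_ker, map_sub, AlgHom.commutes]
    exact sub_self _
  rw [h1, hJ]
  exact Ideal.mem_map_of_mem (ψ : B →+* A) h2

theorem IsKer.kills {J : Ideal A}
    (hJ : J = Ideal.map (ψ : B →+* A) (RingHom.ker (Bialgebra.counitAlgHom k B)))
    {n : WithConv (A →ₐ[k] R)} (h : IsKer ψ n) : ∀ a ∈ J, n.ofConv a = 0 := by
  intro a ha
  have hle : J ≤ RingHom.ker n.ofConv := by
    rw [hJ, Ideal.map_le_iff_le_comap]
    intro b hb
    have hb0 : Coalgebra.counit (R := k) b = 0 := hb
    rw [Ideal.mem_comap, RingHom.mem_ker]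
    exact (h.apply b).trans (by rw [hb0, map_zero])
  exact hle ha

end Ker

/-- Degree-one exactness of the Amitsur complex of a faithfully flat algebra. -/
theorem exists_sub_eq {C D : Type u} [CommRing C] [CommRing D] [Algebra C D] [Module.FaithfullyFlat C D]
    {c : D ⊗[C] D}
    (hc : (1 : D) ⊗ₜ[C] c - LinearMap.lTensor D (TensorProduct.mk C D D 1) c +
      LinearMap.lTensor D ((TensorProduct.mk C D D).flip 1) c = 0) :
    ∃ G : D, c = (1 : D) ⊗ₜ[C] G - G ⊗ₜ[C] (1 : D) := by
  let d0 : D →ₗ[C] D ⊗[C] D := TensorProduct.mk C D D 1 - (TensorProduct.mk C D D).flip 1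
  let d1 : D ⊗[C] D →ₗ[C] D ⊗[C] (D ⊗[C] D) := TensorProduct.mk C D (D ⊗[C] D) 1 -
    LinearMap.lTensor D (TensorProduct.mk C D D 1) + LinearMap.lTensor D ((TensorProduct.mk C D D).flip 1)
  let s1 : D ⊗[C] (D ⊗[C] (D ⊗[C] D)) →ₗ[C] D ⊗[C] (D ⊗[C] D) :=
    LinearMap.rTensor (D ⊗[C] D) (LinearMap.mul' C D) ∘ₗ (TensorProduct.assoc C D D (D ⊗[C] D)).symm.toLinearMap
  let s0 : D ⊗[C] (D ⊗[C] D) →ₗ[C] D ⊗[C] D :=
    LinearMap.rTensor D (LinearMap.mul' C D) ∘ₗ (TensorProduct.assoc C D D D).symm.toLinearMap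
  have hd : d1 ∘ₗ d0 = 0 := by
    refine LinearMap.ext fun G => ?_
    simp [d0, d1, TensorProduct.tmul_sub]
  have hh : ∀ w, s1 (LinearMap.lTensor D d1 w) = w - LinearMap.lTensor D d0 (s0 w) := by
    intro w
    induction w with
    | zero => simp
    | add p q hp hq => simp only [map_add, hp, hq]; abel
    | tmul p q =>
      induction q with
      | zero => simp
      | add x y hx hy => simp only [map_add, TensorProduct.tmul_add, hx, hy]; abel
      | tmul x y =>
        simp [d0, d1, s0, s1, TensorProduct.tmul_sub, TensorProduct.tmul_add]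
        abel
  have hex : Function.Exact d0 d1 := by
    refine Module.FaithfullyFlat.lTensor_reflects_exact C D _ _ fun w => ⟨fun hw => ?_, ?_⟩
    · refine ⟨s0 w, ?_⟩
      have := hh w
      rw [hw, map_zero] at this
      exact (sub_eq_zero.1 this.symm).symm
    · rintro ⟨v, rfl⟩
      rw [← LinearMap.comp_apply, ← LinearMap.lTensor_comp, hd, LinearMap.lTensor_zero]
      rfl
  obtain ⟨G, hG⟩ := (hex c).1 (by simpa [d1] using hc)
  exact ⟨G, hG.symm⟩

/-- `exists_sub_eq` with the face maps written as algebra maps. -/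
theorem exists_sub_eq_algHom {C D : Type u} [CommRing C] [CommRing D] [Algebra C D] [Module.FaithfullyFlat C D]
    {c : D ⊗[C] D}
    (hc : (Algebra.TensorProduct.map (AlgHom.id C D)
        (Algebra.TensorProduct.includeRight : D →ₐ[C] D ⊗[C] D)) c =
      (Algebra.TensorProduct.map (AlgHom.id C D)
        (Algebra.TensorProduct.includeLeft : D →ₐ[C] D ⊗[C] D)) c +
        (Algebra.TensorProduct.includeRight : D ⊗[C] D →ₐ[C] D ⊗[C] (D ⊗[C] D)) c) :
    ∃ G : D, c = (1 : D) ⊗ₜ[C] G - G ⊗ₜ[C] (1 : D) := by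
  refine exists_sub_eq ?_
  have h12 : ∀ w : D ⊗[C] D, LinearMap.lTensor D ((TensorProduct.mk C D D).flip 1) w =
      Algebra.TensorProduct.map (AlgHom.id C D) (Algebra.TensorProduct.includeLeft : D →ₐ[C] D ⊗[C] D) w := by
    intro w
    induction w with
    | zero => simp
    | add p q hp hq => simp only [map_add, hp, hq]
    | tmul p q => simp
  have h13 : ∀ w : D ⊗[C] D, LinearMap.lTensor D (TensorProduct.mk C D D 1) w =
      Algebra.TensorProduct.map (AlgHom.id C D) (Algebra.TensorProduct.includeRight : D →ₐ[C] D ⊗[C] D) w := by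
    intro w
    induction w with
    | zero => simp
    | add p q hp hq => simp only [map_add, hp, hq]
    | tmul p q => simp
  rw [h12, h13, hc, show (1 : D) ⊗ₜ[C] c =
    (Algebra.TensorProduct.includeRight : D ⊗[C] D →ₐ[C] D ⊗[C] (D ⊗[C] D)) c from rfl]
  abel

section Poly

open Polynomial

theorem hasseDeriv_map {S T : Type u} [CommRing S] [CommRing T] (φ : S →+* T) (j : ℕ) (q : S[X]) :
    hasseDeriv j (q.map φ) = (hasseDeriv j q).map φ := by
  ext m
  simp [hasseDeriv_coeff]

variable {U : Type u} [CommRing U] [Algebra k U]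

/-- Coefficientwise independence of the powers of `f` below degree `N` persists after base change. -/
theorem coeff_eq_zero_of_sum (f : U) (N : ℕ)
    (hf : ∀ p : k[X], p.natDegree < N → aeval f p = 0 → p = 0) {R : Type u} [CommRing R] [Algebra k R]
    (c : ℕ → R) (h : ∑ i ∈ Finset.range N, c i ⊗ₜ[k] (f ^ i) = 0) : ∀ i < N, c i = 0 := by
  intro i hi
  rw [← Module.forall_dual_apply_eq_zero_iff k]
  intro θ
  let p : k[X] := ∑ j ∈ Finset.range N, C (θ (c j)) * X ^ j
  have hp : p.natDegree < N := by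
    refine lt_of_le_of_lt (natDegree_sum_le_of_forall_le _ _ (n := N - 1) fun j hj => ?_) (by omega)
    exact (natDegree_C_mul_X_pow_le _ _).trans (by have := Finset.mem_range.1 hj; omega)
  have h1 := congrArg (fun z => TensorProduct.lid k U (θ.rTensor U z)) h
  simp only [map_sum, LinearMap.rTensor_tmul, TensorProduct.lid_tmul, map_zero] at h1
  have hp0 := hf p hp (by simp only [p, map_sum, map_mul, aeval_C, map_pow, aeval_X, ← Algebra.smul_def]; exact h1)
  have := congrArg (fun q => coeff q i) hp0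
  simp only [p, finsetSum_coeff, coeff_C_mul_X_pow, coeff_zero] at this
  rwa [Finset.sum_ite_eq, if_pos (Finset.mem_range.2 hi)] at this

/-- A polynomial is additive if its Taylor coefficients at the generic point are constant. -/
theorem eval_add_of_hasseDeriv {q : k[X]} (h0 : q.coeff 0 = 0)
    (h : ∀ j, 0 < j → hasseDeriv j q = C (q.coeff j)) {R : Type u} [CommRing R] [Algebra k R] (x y : R) :
    aeval (x + y) q = aeval x q + aeval y q := by
  have h1 : aeval (x + y) q = (taylor x (q.map (algebraMap k R))).eval y := by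
    rw [taylor_eval, eval_map, aeval_def, add_comm]
  have h2 : taylor x (q.map (algebraMap k R)) = C (aeval x q) + q.map (algebraMap k R) := by
    refine Polynomial.ext fun j => ?_
    rw [taylor_coeff, coeff_add, coeff_map, coeff_C]
    rcases Nat.eq_zero_or_pos j with rfl | hj
    · rw [hasseDeriv_zero, if_pos rfl, h0, map_zero, add_zero, LinearMap.id_apply, eval_map, aeval_def]
    · rw [if_neg (by omega), zero_add]
      rw [hasseDeriv_map, h j hj, Polynomial.map_C, eval_C]
  rw [h1, h2, eval_add, eval_C, eval_map, aeval_def, aeval_def]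

/-- The relations of an additive element: the minimal polynomial is additive. -/
theorem hasseDeriv_eq_C {q : k[X]} (hq : q.Monic) (f : U)
    (hf : ∀ p : k[X], p.natDegree < q.natDegree → aeval f p = 0 → p = 0) (hq0 : aeval f q = 0)
    (hadd : aeval (f ⊗ₜ[k] (1 : U) + (1 : U) ⊗ₜ[k] f) q = 0) :
    ∀ j, 0 < j → hasseDeriv j q = C (q.coeff j) := by
  intro j hj
  rcases lt_or_ge j q.natDegree with hlt | hge
  · let x : U ⊗[k] U := f ⊗ₜ[k] (1 : U)
    let T := taylor x (q.map (algebraMap k (U ⊗[k] U)))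
    have hT : ∀ i, T.coeff i = (aeval f (hasseDeriv i q)) ⊗ₜ[k] (1 : U) := by
      intro i
      rw [taylor_coeff, hasseDeriv_map, eval_map, ← aeval_def,
        show (x : U ⊗[k] U) = (Algebra.TensorProduct.includeLeft : U →ₐ[k] U ⊗[k] U) f from rfl,
        aeval_algHom_apply]
      rfl
    have hTdeg : T.natDegree ≤ q.natDegree := by
      rw [natDegree_taylor]
      exact natDegree_map_le
    have h1 : aeval ((1 : U) ⊗ₜ[k] f) q = 0 := by
      rw [show ((1 : U) ⊗ₜ[k] f) = (Algebra.TensorProduct.includeRight : U →ₐ[k] U ⊗[k] U) f from rfl,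
        aeval_algHom_apply, hq0, map_zero]
    have hsum : ∑ i ∈ Finset.range q.natDegree,
        (aeval f (hasseDeriv i q) - algebraMap k U (q.coeff i)) ⊗ₜ[k] (f ^ i) = 0 := by
      have e1 : T.eval ((1 : U) ⊗ₜ[k] f) = 0 := by
        rw [taylor_eval, eval_map, ← aeval_def, add_comm]
        exact hadd
      rw [eval_eq_sum_range' (Nat.lt_succ_of_le hTdeg), Finset.sum_range_succ] at e1
      have e2 : aeval ((1 : U) ⊗ₜ[k] f) q = ∑ i ∈ Finset.range (q.natDegree + 1),
          algebraMap k (U ⊗[k] U) (q.coeff i) * ((1 : U) ⊗ₜ[k] f) ^ i := by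
        rw [aeval_eq_sum_range]
        exact Finset.sum_congr rfl fun i _ => by rw [Algebra.smul_def]
      rw [h1, Finset.sum_range_succ] at e2
      have htop : T.coeff q.natDegree = algebraMap k (U ⊗[k] U) (q.coeff q.natDegree) := by
        rw [hT, show hasseDeriv q.natDegree q = C (q.coeff q.natDegree) from ?_, aeval_C]
        · exact (Algebra.TensorProduct.algebraMap_apply _).symm
        · refine Polynomial.ext fun m => ?_
          rw [hasseDeriv_coeff, coeff_C]
          rcases Nat.eq_zero_or_pos m with rfl | hm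
          · simp
          · rw [if_neg (by omega), coeff_eq_zero_of_natDegree_lt (show q.natDegree < m + q.natDegree by omega),
              mul_zero]
      rw [htop] at e1
      have e3 := sub_eq_zero.2 (e1.trans e2)
      rw [add_sub_add_right_eq_sub, ← Finset.sum_sub_distrib] at e3
      refine (Finset.sum_congr rfl fun i _ => ?_).trans e3
      rw [hT, Algebra.TensorProduct.algebraMap_apply, Algebra.TensorProduct.tmul_pow, one_pow,
        Algebra.TensorProduct.tmul_mul_tmul, Algebra.TensorProduct.tmul_mul_tmul, TensorProduct.sub_tmul]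
      simp
    have hc := coeff_eq_zero_of_sum f q.natDegree hf _ hsum j hlt
    refine sub_eq_zero.1 (hf _ ?_ (by rw [map_sub, aeval_C]; exact hc))
    refine lt_of_le_of_lt (natDegree_sub_le _ _) (max_lt ?_ ?_)
    · exact lt_of_le_of_lt (natDegree_hasseDeriv_le q j) (by omega)
    · rw [natDegree_C]; omega
  · refine Polynomial.ext fun m => ?_
    rw [hasseDeriv_coeff, coeff_C]
    rcases Nat.eq_zero_or_pos m with rfl | hm
    · simp
    · rw [if_neg (by omega), coeff_eq_zero_of_natDegree_lt (show q.natDegree < m + j by omega), mul_zero]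

end Poly

end Groth.L01.UnipSplit
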