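import Groth.Agent.L01.DerDet
import Groth.Agent.L08.HopfDim
import Groth.Agent.L15.Frob.PerfectField
import Groth.Agent.L25.GeomRed
import Groth.Agent.L25.HopfFlatGen
import Mathlib.RingTheory.Flat.FaithfullyFlat.Algebra
import Mathlib.RingTheory.Smooth.Basic

/-!
# Additive functions on smooth groups with smooth kernel
-/

set_option autoImplicit false

universe u

open TensorProduct

noncomputable section

namespace Groth.L01.SmoothKer

variable {k : Type u} [Field k] {U : Type u} [CommRing U] [HopfAlgebra k U]

/-- additive functions -/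
def IsPrim (f : U) : Prop := Coalgebra.comul (R := k) f = f ⊗ₜ[k] (1 : U) + (1 : U) ⊗ₜ[k] f

theorem IsPrim.counit {f : U} (hf : IsPrim (k := k) f) : Coalgebra.counit (R := k) f = 0 := by
  have h := congrArg (fun z => TensorProduct.lid k k (TensorProduct.map (Coalgebra.counit (R := k) (A := U))
    (Coalgebra.counit (R := k) (A := U)) z)) hf
  have h2 : ∀ w : U ⊗[k] U, TensorProduct.lid k k (TensorProduct.map (Coalgebra.counit (R := k) (A := U))
      (Coalgebra.counit (R := k) (A := U)) w) =
      Coalgebra.counit (R := k) (TensorProduct.lid k U ((Coalgebra.counit (R := k) (A := U)).rTensor U w)) := by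
    intro w
    induction w with
    | zero => simp
    | add p q hp hq => simp only [map_add, hp, hq]
    | tmul p q => simp
  simp only [h2, Coalgebra.rTensor_counit_comul, TensorProduct.lid_tmul, one_smul] at h
  simp only [map_add, TensorProduct.lid_tmul, LinearMap.rTensor_tmul, Bialgebra.counit_one, one_smul, map_smul,
    smul_eq_mul, mul_one] at h
  exact add_eq_left.1 h.symm

theorem IsPrim.antipode {f : U} (hf : IsPrim (k := k) f) : HopfAlgebraStruct.antipode k f = -f := by
  have h := HopfAlgebra.mul_antipode_rTensor_comul_apply (R := k) f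
  rw [hf, hf.counit, map_zero, map_add, LinearMap.rTensor_tmul, LinearMap.rTensor_tmul, map_add,
    LinearMap.mul'_apply, LinearMap.mul'_apply, mul_one, HopfAlgebra.antipode_one, one_mul] at h
  exact eq_neg_of_add_eq_zero_left h

/-- Derivations to any algebra are translates of tangent vectors at the origin. -/
theorem eq_zero_of_mem_sq {R : Type u} [CommRing R] [Algebra k R] (g : U →ₐ[k] R) (D : U →ₗ[k] R)
    (hD : ∀ a b, D (a * b) = g a * D b + g b * D a) {f : U} (hf : IsPrim (k := k) f)
    (h2 : f ∈ RingHom.ker (Bialgebra.counitAlgHom k U) ^ 2) : D f = 0 := by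
  let gS : U →ₐ[k] R := g.comp (HopfAlgebra.antipodeAlgHom k U)
  let N : U ⊗[k] U →ₐ[k] R := Algebra.TensorProduct.lift gS g fun _ _ => Commute.all _ _
  let M : U ⊗[k] U →ₗ[k] R := LinearMap.mul' k R ∘ₗ TensorProduct.map gS.toLinearMap D
  have hM : ∀ v w, M (v * w) = N v * M w + N w * M v := by
    intro v w
    induction v with
    | zero => simp
    | add p q hp hq => simp only [add_mul, map_add, hp, hq]; ring
    | tmul p q =>
      induction w with
      | zero => simp
      | add x y hx hy => simp only [mul_add, map_add, hx, hy]; ring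
      | tmul x y =>
        simp [M, N, hD]
        ring
  have hN : ∀ x, N (Coalgebra.comul (R := k) x) = algebraMap k R (Coalgebra.counit (R := k) x) := by
    intro x
    have h := congrArg g (HopfAlgebra.mul_antipode_rTensor_comul_apply (R := k) x)
    rw [AlgHom.commutes] at h
    rw [← h]
    induction Coalgebra.comul (R := k) x with
    | zero => simp
    | add p q hp hq => simp only [map_add, hp, hq]
    | tmul p q => simp [N, gS]
  let δ : U →ₗ[k] R := M ∘ₗ Coalgebra.comul
  have hδ : δ f = D f := by
    have h1 : D 1 = 0 := by simpa using hD 1 1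
    simp [δ, M, show Coalgebra.comul (R := k) f = _ from hf, gS, h1]
  rw [← hδ]
  rw [pow_two] at h2
  refine Submodule.mul_induction_on h2 (fun a ha b hb => ?_) fun a b ha hb => by rw [map_add, ha, hb, add_zero]
  have ha' : Coalgebra.counit (R := k) a = 0 := ha
  have hb' : Coalgebra.counit (R := k) b = 0 := hb
  show M (Coalgebra.comul (R := k) (a * b)) = 0
  rw [Bialgebra.comul_mul, hM, hN, hN, ha', hb', map_zero, zero_mul, zero_mul, add_zero]

section Reduced

variable [IsAlgClosed k] [Algebra.FiniteType k U]

theorem isReduced_of_formallySmooth (hs : Algebra.FormallySmooth k U) : IsReduced U := by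
  refine isReduced_ofLocalizationMaximal U fun m hm => ?_
  haveI := (Groth.L12.CotTLib.regular_iff_formallySmooth (k := k) (B := U)).2 hs m
  haveI := Groth.L01.isDomain_of_regular (Localization.AtPrime m)
  infer_instance

theorem formallySmooth_of_isReduced [IsReduced U] : Algebra.FormallySmooth k U := by
  haveI : Nontrivial U := (Bialgebra.counitAlgHom k U).toRingHom.domain_nontrivial
  obtain ⟨n, hn, hreg⟩ := Groth.L08.HopfDim.exists_regular_maximal (k := k) U
  exact (Groth.L12.CotTLib.smooth_of_regular_maximal fun m hm =>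
    Groth.L08.HopfDim.regular_atPrime k (m := m) hreg).formallySmooth

end Reduced

theorem comap_map_of_faithfullyFlat {C D : Type u} [CommRing C] [CommRing D] (φ : C →+* D)
    (h : φ.FaithfullyFlat) (I : Ideal C) : (I.map φ).comap φ = I := by
  algebraize [φ]
  exact Ideal.comap_map_eq_self_of_faithfullyFlat I

section Root

variable [IsAlgClosed k] [Algebra.FiniteType k U] [Algebra.FormallySmooth k U] (p : ℕ) [hp : Fact p.Prime] [CharP k p]

/-- An additive function without linear part is a `p`-th power. -/
theorem exists_root {f : U} (hf : IsPrim (k := k) f) (h2 : f ∈ RingHom.ker (Bialgebra.counitAlgHom k U) ^ 2) :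
    ∃ g : U, g ^ p = f ∧ IsPrim (k := k) g := by
  classical
  haveI : Nontrivial U := (Bialgebra.counitAlgHom k U).toRingHom.domain_nontrivial
  haveI : IsReduced U := isReduced_of_formallySmooth ‹_›
  haveI : IsNoetherianRing U := Algebra.FiniteType.isNoetherianRing k U
  haveI : CharP U p := charP_of_injective_algebraMap (algebraMap k U).injective p
  haveI : ExpChar k p := ExpChar.prime hp.out
  haveI : ExpChar U p := ExpChar.prime hp.out
  haveI : PerfectRing k p := PerfectField.toPerfectRing p
  haveI : Algebra.Smooth k U := ⟨inferInstance, Algebra.FinitePresentation.of_finiteType.1 inferInstance⟩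
  let T : Ideal U :=
    { carrier := {a | ∃ b, a ^ p * f = b ^ p}
      add_mem' := fun {a a'} h h' => by
        obtain ⟨b, hb⟩ := h
        obtain ⟨b', hb'⟩ := h'
        exact ⟨b + b', by rw [add_pow_char, add_pow_char, add_mul, hb, hb']⟩
      zero_mem' := ⟨0, by rw [zero_pow hp.out.ne_zero, zero_mul]⟩
      smul_mem' := fun c a h => by
        obtain ⟨b, hb⟩ := h
        exact ⟨c * b, by rw [smul_eq_mul, mul_pow, mul_pow, mul_assoc, hb]⟩ }
  have hT : ∀ P ∈ minimalPrimes U, ¬ T ≤ P := by
    intro P hP
    haveI : P.IsPrime := hP.1.1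
    let B := U ⧸ P
    haveI : CharP B p := charP_of_injective_algebraMap (algebraMap k B).injective p
    let F := FractionRing B
    obtain ⟨x, hx⟩ : ∃ x : F, x ^ p = algebraMap B F (Ideal.Quotient.mk P f) := by
      by_contra! hno
      obtain ⟨D, hD⟩ := Groth.L01.DerDet.exists_derivation (R := k) (E := k) p
        (fun a ha => absurd ((frobeniusEquiv k p).apply_symm_apply a) (by rw [frobeniusEquiv_apply, frobenius_def]; exact ha _))
        (Ideal.Quotient.mk P f) hno
      refine hD ?_
      have hk : ∀ c : k, D (algebraMap k B c) = 0 := fun c => by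
        rw [← (frobeniusEquiv k p).apply_symm_apply c, frobeniusEquiv_apply, frobenius_def, map_pow, Derivation.leibniz_pow,
          ← Nat.cast_smul_eq_nsmul B, CharP.cast_eq_zero, zero_smul]
      let Dl : U →ₗ[k] B :=
        { toFun := fun a => D (Ideal.Quotient.mk P a)
          map_add' := fun a b => by simp
          map_smul' := fun c a => by
            show D (Ideal.Quotient.mk P (c • a)) = c • D (Ideal.Quotient.mk P a)
            rw [Algebra.smul_def, map_mul, show Ideal.Quotient.mk P (algebraMap k U c) = algebraMap k B c from rfl,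
              Derivation.leibniz, hk, smul_zero, add_zero, smul_eq_mul, ← Algebra.smul_def] }
      exact eq_zero_of_mem_sq (Ideal.Quotient.mkₐ k P) Dl (fun a b => by
        show D (Ideal.Quotient.mk P (a * b)) = _
        rw [map_mul, Derivation.leibniz, smul_eq_mul, smul_eq_mul]
        rfl) hf h2
    obtain ⟨b, a, ha, rfl⟩ := IsFractionRing.div_surjective (A := B) x
    have hab : a ^ p * Ideal.Quotient.mk P f = b ^ p := by
      apply IsFractionRing.injective B F
      rw [map_mul, map_pow, map_pow, ← hx, div_pow, mul_div_cancel₀]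
      exact pow_ne_zero _ ((map_ne_zero_iff _ (IsFractionRing.injective B F)).2 (nonZeroDivisors.ne_zero ha))
    obtain ⟨a, rfl⟩ := Ideal.Quotient.mk_surjective a
    obtain ⟨b, rfl⟩ := Ideal.Quotient.mk_surjective b
    rw [← map_pow, ← map_pow, ← map_mul, Ideal.Quotient.eq] at hab
    have haP : a ∉ P := fun h => nonZeroDivisors.ne_zero ha (Ideal.Quotient.eq_zero_iff_mem.2 h)
    obtain ⟨c, hc, hcP⟩ : ∃ c ∈ ((minimalPrimes.finite_of_isNoetherianRing U).toFinset.erase P).inf id, c ∉ P := by
      refine SetLike.not_le_iff_exists.1 fun hle => ?_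
      obtain ⟨Q, hQ, hQP⟩ := (Ideal.IsPrime.inf_le' (f := id) ‹P.IsPrime›).1 hle
      rw [Finset.mem_erase, Set.Finite.mem_toFinset] at hQ
      exact hQ.1 (le_antisymm hQP (hP.2 hQ.2.1 hQP))
    refine fun hle => (Ideal.IsPrime.mem_or_mem ‹P.IsPrime› (hle (?_ : c * a ∈ T))).elim hcP haP
    refine ⟨c * b, sub_eq_zero.1 ?_⟩
    rw [mul_pow, mul_pow, mul_assoc, ← mul_sub]
    have hn : c ^ p * (a ^ p * f - b ^ p) ∈ nilradical U := by
      rw [nilradical, ← Ideal.sInf_minimalPrimes, Ideal.mem_sInf]
      intro Q hQ
      by_cases hQP : Q = P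
      · subst hQP; exact Q.mul_mem_left _ hab
      · refine Q.mul_mem_right _ (Ideal.pow_mem_of_mem _ ?_ _ hp.out.pos)
        exact (Finset.inf_le (f := id) (Finset.mem_erase.2 ⟨hQP,
          (minimalPrimes.finite_of_isNoetherianRing U).mem_toFinset.2 hQ⟩) : _ ≤ Q) hc
    exact (mem_nilradical.1 hn).eq_zero
  obtain ⟨a, haT, ha⟩ : ∃ a ∈ T, ∀ P ∈ minimalPrimes U, a ∉ P := by
    by_contra! h
    have hsub : (T : Set U) ⊆ ⋃ P ∈ ((minimalPrimes.finite_of_isNoetherianRing U).toFinset : Set (Ideal U)), (P : Set U) := by
      intro a ha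
      obtain ⟨P, hP, haP⟩ := h a ha
      exact Set.mem_biUnion ((minimalPrimes.finite_of_isNoetherianRing U).mem_toFinset.2 hP) haP
    obtain ⟨P, hP, hle⟩ := (Ideal.subset_union_prime (f := id) ⊤ ⊤ fun P hP _ _ =>
      ((minimalPrimes.finite_of_isNoetherianRing U).mem_toFinset.1 hP).1.1).1 hsub
    exact hT P ((minimalPrimes.finite_of_isNoetherianRing U).mem_toFinset.1 hP) hle
  have hreg : ∀ x : U, a * x = 0 → x = 0 := by
    intro x hx
    have hn : x ∈ nilradical U := by
      rw [nilradical, ← Ideal.sInf_minimalPrimes, Ideal.mem_sInf]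
      intro Q hQ
      exact ((hQ.1.1.mem_or_mem (show a * x ∈ Q by rw [hx]; exact zero_mem _))).resolve_left (ha Q hQ)
    exact (mem_nilradical.1 hn).eq_zero
  obtain ⟨b, hb⟩ := haT
  have hmem : b ∈ Ideal.span {a} := by
    rw [← comap_map_of_faithfullyFlat (frobenius U p) (Groth.L15.Frob.faithfullyFlat_frobenius p k U) (Ideal.span {a}),
      Ideal.mem_comap, Ideal.map_span, Set.image_singleton, frobenius_def, frobenius_def, ← hb]
    exact Ideal.mul_mem_right _ _ (Ideal.mem_span_singleton_self _)
  obtain ⟨g, rfl⟩ := Ideal.mem_span_singleton'.1 hmem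
  have hg : g ^ p = f := by
    have hz : a ^ p * (f - g ^ p) = 0 := by rw [mul_sub, hb, mul_pow]; ring
    have hpow : ∀ n x, a ^ n * x = 0 → x = 0 := by
      intro n
      induction n with
      | zero => intro x hx; simpa using hx
      | succ n ih => intro x hx; exact hreg x (ih _ (by rw [← mul_assoc, ← pow_succ]; exact hx))
    exact (sub_eq_zero.1 (hpow p _ hz)).symm
  refine ⟨g, hg, sub_eq_zero.1 ?_⟩
  haveI : IsReduced (U ⊗[k] U) := Groth.L25.GeomRed.isReduced_tensorProduct_of_isAlgClosed
  haveI : CharP (U ⊗[k] U) p := charP_of_injective_algebraMap (algebraMap k (U ⊗[k] U)).injective p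
  haveI : ExpChar (U ⊗[k] U) p := ExpChar.prime hp.out
  refine IsReduced.eq_zero _ ⟨p, ?_⟩
  rw [sub_pow_char, add_pow_char, ← Bialgebra.comul_pow, Algebra.TensorProduct.tmul_pow,
    Algebra.TensorProduct.tmul_pow, one_pow, hg, show Coalgebra.comul (R := k) f = _ from hf, sub_self]

include p in
/-- If all additive functions are singular they generate idempotent ideals. -/
theorem mem_span_sq (hall : ∀ g : U, IsPrim (k := k) g → g ∈ RingHom.ker (Bialgebra.counitAlgHom k U) ^ 2)
    {f : U} (hf : IsPrim (k := k) f) : f ∈ Ideal.span {f} ^ 2 := by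
  haveI : IsNoetherianRing U := Algebra.FiniteType.isNoetherianRing k U
  choose root h1 h2 using fun (g : {g : U // IsPrim (k := k) g}) => exists_root p g.2 (hall g.1 g.2)
  let s : ℕ → {g : U // IsPrim (k := k) g} := fun n => n.rec ⟨f, hf⟩ fun _ g => ⟨root g, h2 g⟩
  have hs : ∀ n, (s (n + 1)).1 ^ p = (s n).1 := fun n => h1 (s n)
  have hpow : ∀ n, (s n).1 ^ p ^ n = f := by
    intro n
    induction n with
    | zero => rw [pow_zero, pow_one]; rfl
    | succ n ih => rw [pow_succ', pow_mul, hs, ih]
  let c : ℕ →o Ideal U := ⟨fun n => Ideal.span {(s n).1}, monotone_nat_of_le_succ fun n => by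
    rw [Ideal.span_singleton_le_span_singleton, ← hs n]
    exact dvd_pow_self _ hp.out.ne_zero⟩
  obtain ⟨n, hn⟩ := monotone_stabilizes_iff_noetherian.2 ‹_› c
  obtain ⟨a, ha⟩ := Ideal.mem_span_singleton'.1
    (show (s (n + 1)).1 ∈ Ideal.span {(s n).1} from (hn (n + 1) n.le_succ).ge (Ideal.mem_span_singleton_self _))
  have h3 : f = a ^ p ^ (n + 1) * f ^ p := by
    calc f = (a * (s n).1) ^ p ^ (n + 1) := by rw [ha]; exact (hpow (n + 1)).symm
      _ = _ := by
        rw [mul_pow]
        refine congrArg (fun z => a ^ p ^ (n + 1) * z) ?_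
        rw [pow_succ, pow_mul]
        exact congrArg (fun z => z ^ p) (hpow n)
  rw [h3]
  refine Ideal.mul_mem_left _ _ ?_
  rw [← h3, show p = 2 + (p - 2) by have := hp.out.two_le; omega, pow_add]
  exact Ideal.mul_mem_right _ _ (Ideal.pow_mem_pow (Ideal.mem_span_singleton_self f) 2)

end Root

/-- The kernel of an additive function with linear part, or with idempotent ideal, is smooth. -/
theorem formallySmooth_quotient [Algebra.FormallySmooth k U] {U' : Type u} [CommRing U'] [Algebra k U']
    (φ : U →ₐ[k] U') (hφ : Function.Surjective φ) {f : U} (hker : RingHom.ker φ.toRingHom = Ideal.span {f})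
    (hf : IsPrim (k := k) f)
    (h : f ∉ RingHom.ker (Bialgebra.counitAlgHom k U) ^ 2 ∨ f ∈ Ideal.span {f} ^ 2) :
    Algebra.FormallySmooth k U' := by
  let K := RingHom.ker φ.toRingHom
  let e := Ideal.quotientKerAlgEquivOfSurjective hφ
  have hK : RingHom.ker φ = Ideal.span {f} := hker
  suffices ∀ (g : U →ₐ[k] U ⧸ K ^ 2), g f = 0 → (∀ x, φ.kerSquareLift (g x) = φ x) → Algebra.FormallySmooth k U' by
    rcases h with h | h
    · obtain ⟨δ, hδ2, hδf⟩ : ∃ δ : U →ₗ[k] k,
          (∀ a b, δ (a * b) = Coalgebra.counit (R := k) a * δ b + Coalgebra.counit (R := k) b * δ a) ∧ δ f = 1 := by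
        let m := RingHom.ker (Bialgebra.counitAlgHom k U)
        let S : Submodule k U := (m ^ 2).restrictScalars k ⊔ Submodule.span k {1}
        have hfS : f ∉ S := by
          intro hmem
          obtain ⟨x, hx, y, hy, hxy⟩ := Submodule.mem_sup.1 hmem
          obtain ⟨c, rfl⟩ := Submodule.mem_span_singleton.1 hy
          have h1 := congrArg (Coalgebra.counit (R := k)) hxy
          rw [map_add, map_smul, Bialgebra.counit_one, hf.counit,
            show Coalgebra.counit (R := k) x = 0 from Ideal.pow_le_self two_ne_zero hx, zero_add, smul_eq_mul, mul_one] at h1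
          rw [h1, zero_smul, add_zero] at hxy
          exact h (hxy ▸ hx)
        obtain ⟨θ, hθ, hmap⟩ := Submodule.exists_dual_map_eq_bot_of_notMem hfS inferInstance
        refine ⟨(θ f)⁻¹ • θ, fun a b => ?_, inv_mul_cancel₀ hθ⟩
        have h0 : ∀ x ∈ S, θ x = 0 := fun x hx => by
          have := Submodule.mem_map_of_mem (f := θ) hx
          rwa [hmap, Submodule.mem_bot] at this
        have hz : (a - Coalgebra.counit (R := k) a • (1 : U)) * (b - Coalgebra.counit (R := k) b • (1 : U)) ∈ S := by
          refine Submodule.mem_sup_left ?_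
          show _ ∈ m ^ 2
          rw [pow_two]
          refine Ideal.mul_mem_mul ?_ ?_ <;> simp [m, RingHom.mem_ker]
        have h1 := h0 _ hz
        have h11 := h0 1 (Submodule.mem_sup_right (Submodule.mem_span_singleton_self 1))
        simp only [sub_mul, mul_sub, smul_mul_assoc, mul_smul_comm, one_mul, mul_one, map_sub, map_smul, h11,
          smul_eq_mul, mul_zero, sub_zero] at h1
        simp only [LinearMap.smul_apply, smul_eq_mul]
        linear_combination (θ f)⁻¹ * h1
      let E : U ⊗[k] U →ₗ[k] U := (TensorProduct.rid k U).toLinearMap ∘ₗ δ.lTensor U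
      let P : U ⊗[k] U →ₐ[k] U :=
        (Algebra.TensorProduct.rid k k U).toAlgHom.comp (Algebra.TensorProduct.map (AlgHom.id k U) (Bialgebra.counitAlgHom k U))
      have hE : ∀ v w, E (v * w) = P v * E w + P w * E v := by
        intro v w
        induction v with
        | zero => simp
        | add p q hp hq => simp only [add_mul, map_add, hp, hq]; ring
        | tmul p q =>
          induction w with
          | zero => simp
          | add x y hx hy => simp only [mul_add, map_add, hx, hy]; ring
          | tmul x y =>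
            simp [E, P, hδ2, Algebra.smul_def]
            ring
      have hP : ∀ x, P (Coalgebra.comul (R := k) x) = x := by
        intro x
        have h1 : ∀ w : U ⊗[k] U, P w = TensorProduct.rid k U ((Coalgebra.counit (R := k) (A := U)).lTensor U w) := by
          intro w
          induction w with
          | zero => simp
          | add p q hp hq => simp only [map_add, hp, hq]
          | tmul p q => simp [P]
        rw [h1, Coalgebra.lTensor_counit_comul, TensorProduct.rid_tmul, one_smul]
      let D : U →ₗ[k] U := E ∘ₗ Coalgebra.comul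
      have hD : ∀ a b, D (a * b) = a * D b + b * D a := fun a b => by
        show E (Coalgebra.comul (R := k) (a * b)) = _
        rw [Bialgebra.comul_mul, hE, hP, hP]
        rfl
      have hD1 : D 1 = 0 := by simpa using hD 1 1
      have hDf : D f = 1 := by
        have hδ1 : δ 1 = 0 := by simpa using hδ2 1 1
        simp [D, E, show Coalgebra.comul (R := k) f = _ from hf, hδf, hδ1]
      have hff : f * f ∈ K ^ 2 := by
        have : f ∈ K := hker.ge (Ideal.mem_span_singleton_self f)
        rw [pow_two]; exact Ideal.mul_mem_mul this this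
      let π := Ideal.Quotient.mkₐ k (K ^ 2)
      refine this (AlgHom.ofLinearMap (π.toLinearMap ∘ₗ (LinearMap.id - LinearMap.mulLeft k f ∘ₗ D)) ?_ ?_) ?_ ?_
      · simp [hD1]
      · intro a b
        show π (a * b - f * D (a * b)) = π (a - f * D a) * π (b - f * D b)
        rw [← map_mul]
        refine (Ideal.Quotient.eq.2 ?_)
        rw [hD, show a * b - f * (a * D b + b * D a) - (a - f * D a) * (b - f * D b) = (- D a * D b) * (f * f) by ring]
        exact Ideal.mul_mem_left _ _ hff
      · show π (f - f * D f) = 0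
        rw [hDf, mul_one, sub_self, map_zero]
      · intro x
        show φ (x - f * D x) = φ x
        rw [map_sub, map_mul, show φ f = 0 from (hK.ge (Ideal.mem_span_singleton_self f)), zero_mul, sub_zero]
    · exact this (Ideal.Quotient.mkₐ k (K ^ 2))
        (Ideal.Quotient.eq_zero_iff_mem.2 (show f ∈ K ^ 2 by rw [show K = Ideal.span {f} from hker]; exact h)) fun x => rfl
  intro g hgf hg
  have hgK : ∀ x ∈ K, g x = 0 := fun x hx => by
    obtain ⟨y, rfl⟩ := Ideal.mem_span_singleton'.1 (hker.le hx)
    rw [map_mul, hgf, mul_zero]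
  refine Algebra.FormallySmooth.of_split φ ((Ideal.Quotient.liftₐ K g hgK).comp e.symm.toAlgHom) (AlgHom.ext fun y => ?_)
  obtain ⟨x, rfl⟩ := hφ y
  show φ.kerSquareLift ((Ideal.Quotient.liftₐ K g hgK) (e.symm (φ x))) = φ x
  rw [show e.symm (φ x) = Ideal.Quotient.mk _ x from e.symm_apply_eq.2 rfl]
  exact hg x

/-- An additive function takes every value allowed by its relations at some rational point. -/
theorem exists_point [IsAlgClosed k] [Algebra.FiniteType k U] {f : U} (hf : IsPrim (k := k) f) (s : k)
    (hs : ∀ p : Polynomial k, Polynomial.aeval f p = 0 → Polynomial.eval s p = 0) :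
    ∃ u : U →ₐ[k] k, u f = s := by
  let C := (Polynomial.aeval (R := k) f).range
  have hfC : f ∈ C := ⟨Polynomial.X, by simp⟩
  have hC : SGA3.IsHopfSubalgebra k U C := by
    let i := Algebra.TensorProduct.map C.val C.val
    have h1 : C ≤ i.range.comap (Bialgebra.comulAlgHom k U) := by
      rintro _ ⟨P, rfl⟩
      show Polynomial.aeval f P ∈ _
      have h : f ∈ i.range.comap (Bialgebra.comulAlgHom k U) := by
        show Coalgebra.comul (R := k) f ∈ i.range
        rw [show Coalgebra.comul (R := k) f = _ from hf]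
        exact ⟨(⟨f, hfC⟩ : C) ⊗ₜ[k] (1 : C) + (1 : C) ⊗ₜ[k] (⟨f, hfC⟩ : C), by simp [i]⟩
      exact Algebra.adjoin_le (Set.singleton_subset_iff.2 h) (Polynomial.aeval_mem_adjoin_singleton k f)
    have h2 : C ≤ C.comap (HopfAlgebra.antipodeAlgHom k U) := by
      rintro _ ⟨P, rfl⟩
      show Polynomial.aeval f P ∈ _
      have h : f ∈ C.comap (HopfAlgebra.antipodeAlgHom k U) := by
        show HopfAlgebraStruct.antipode k f ∈ C
        rw [hf.antipode]; exact neg_mem hfC
      exact Algebra.adjoin_le (Set.singleton_subset_iff.2 h) (Polynomial.aeval_mem_adjoin_singleton k f)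
    exact ⟨fun b hb => h1 hb, fun b hb => h2 hb⟩
  haveI : Module.FaithfullyFlat C U := Groth.L25.HopfFlat.faithfullyFlat _ hC
  have hne : Ideal.span {f - algebraMap k U s} ≠ ⊤ := by
    intro htop
    let x : C := ⟨f, hfC⟩ - algebraMap k C s
    have h1 : (Ideal.span {x}).map (algebraMap C U) = ⊤ := by
      rw [Ideal.map_span, Set.image_singleton]; exact htop
    have h2 := congrArg (Ideal.comap (algebraMap C U)) h1
    rw [Ideal.comap_map_eq_self_of_faithfullyFlat, Ideal.comap_top, Ideal.eq_top_iff_one,
      Ideal.mem_span_singleton'] at h2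
    obtain ⟨⟨_, P, rfl⟩, hP⟩ := h2
    have h3 : Polynomial.aeval f P * (f - algebraMap k U s) = 1 := congrArg Subtype.val hP
    have h4 := hs (P * (Polynomial.X - Polynomial.C s) - 1) (by simp [h3])
    simp at h4
  obtain ⟨m, hm, hle⟩ := Ideal.exists_le_maximal _ hne
  obtain ⟨χ, hχ⟩ := Groth.L08.HopfDim.exists_point (k := k) m
  refine ⟨χ, sub_eq_zero.1 ?_⟩
  have := hle (Ideal.mem_span_singleton_self _)
  rw [hχ, RingHom.mem_ker, map_sub, AlgHom.commutes] at this
  exact this

end Groth.L01.SmoothKer
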