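import Groth.Agent.L01.UnipSplit.Final
import Groth.Agent.S7967
import Groth.Prelude.Def_SGA3b
import Mathlib.RingTheory.HopfAlgebra.MonoidAlgebra
import Mathlib.RingTheory.Bialgebra.Equiv

/-!
# Extensions of diagonalisable groups by unipotent groups split
-/

set_option autoImplicit false

universe u

open TensorProduct WithConv Groth.L08

noncomputable section

namespace Groth.L01.UnipSplit

variable {k : Type u} [Field k] {A B : Type u} [CommRing A] [HopfAlgebra k A] [CommRing B] [HopfAlgebra k B]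

/-- The group-like basis coming from an isomorphism with a group algebra. -/
def GLBasis.ofEquiv {M : Type u} [CommGroup M] (e : B ≃ₐc[k] MonoidAlgebra k M) : GLBasis k B M where
  b := (MonoidAlgebra.basis M k).map e.symm.toAlgEquiv.toLinearEquiv
  b_one := by
    simp only [Module.Basis.map_apply, MonoidAlgebra.basis_apply]
    show e.symm (MonoidAlgebra.single (1 : M) (1 : k)) = 1
    rw [← MonoidAlgebra.one_def, map_one]
  b_mul μ ν := by
    simp only [Module.Basis.map_apply, MonoidAlgebra.basis_apply]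
    show e.symm (MonoidAlgebra.single (μ * ν) (1 : k)) =
      e.symm (MonoidAlgebra.single μ 1) * e.symm (MonoidAlgebra.single ν 1)
    rw [← map_mul, MonoidAlgebra.single_mul_single, one_mul]
  b_comul μ := by
    simp only [Module.Basis.map_apply, MonoidAlgebra.basis_apply]
    show Coalgebra.comul (R := k) (e.symm (MonoidAlgebra.single μ (1 : k))) = _
    rw [← CoalgHomClass.map_comp_comul_apply e.symm]
    simp
  b_counit μ := by
    simp only [Module.Basis.map_apply, MonoidAlgebra.basis_apply]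
    show Coalgebra.counit (R := k) (e.symm (MonoidAlgebra.single μ (1 : k))) = 1
    rw [CoalgHomClass.counit_comp_apply]
    simp

/-- The preimage of a Hopf ideal under a bialgebra homomorphism is a Hopf ideal. -/
theorem isHopfIdeal_comap (f : B →ₐc[k] A) (I : Ideal A) [I.IsHopfIdeal k] :
    (I.comap (f : B →ₐ[k] A)).IsHopfIdeal k := by
  refine { toIsCoideal := ⟨fun x hx => ?_, fun x hx => ?_⟩, antipode_mem := fun x hx => ?_ }
  · rw [← CoalgHomClass.counit_comp_apply f x]
    exact (‹I.IsHopfIdeal k›).toIsCoideal.counit_eq_zero hx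
  · let J := I.comap (f : B →ₐ[k] A)
    let e := (Ideal.quotientMapₐ I (f : B →ₐ[k] A) (le_refl J)).toLinearMap
    have he : Function.Injective e := Ideal.quotientMap_injective
    let π₀ := (Ideal.Quotient.mkₐ k J).toLinearMap
    let π := (Ideal.Quotient.mkₐ k I).toLinearMap
    have h : TensorProduct.map π₀ π₀ (Coalgebra.comul (R := k) x) = 0 := by
      apply TensorProduct.map_injective_of_flat_flat e e he he
      rw [map_zero, ← LinearMap.comp_apply, ← TensorProduct.map_comp,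
        show e ∘ₗ π₀ = π ∘ₗ (f : B →ₗ[k] A) from rfl, TensorProduct.map_comp, LinearMap.comp_apply,
        show TensorProduct.map (f : B →ₗ[k] A) (f : B →ₗ[k] A) (Coalgebra.comul (R := k) x) =
          Coalgebra.comul (R := k) (f x) from CoalgHomClass.map_comp_comul_apply f x]
      exact (‹I.IsHopfIdeal k›).toIsCoideal.map_mkQ_comul_eq_zero hx
    exact h
  · change f (HopfAlgebraStruct.antipode k x) ∈ I
    rw [show f (HopfAlgebraStruct.antipode k x) = _ from Groth.L25.Char.bialgHom_antipode f x]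
    exact Ideal.IsHopfIdeal.antipode_mem (R := k) hx

/-- Unipotence passes to closed subgroups cut out by images. -/
theorem isUnipotent_quotient {A' : Type u} [CommRing A'] [HopfAlgebra k A'] (p : A →ₐc[k] A')
    (hp : Function.Surjective p) (J : Ideal A) [J.IsHopfIdeal k] (J' : Ideal A') [J'.IsHopfIdeal k]
    (h : J ≤ J'.comap (p : A →ₐ[k] A')) (hU : HopfRep.IsUnipotent k (A ⧸ J)) :
    HopfRep.IsUnipotent k (A' ⧸ J') := by
  let g : (A ⧸ J) →ₐ[k] (A' ⧸ J') := Ideal.Quotient.liftₐ J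
    ((Ideal.Quotient.mkₐ k J').comp (p : A →ₐ[k] A')) fun a ha => Ideal.Quotient.eq_zero_iff_mem.2 (h ha)
  let q := (Bialgebra.Quotient.mkBialgHom (R := k) J').comp p
  have hg : ∀ a, g (Ideal.Quotient.mk J a) = q a := fun a => rfl
  let gc : (A ⧸ J) →ₐc[k] (A' ⧸ J') := BialgHom.ofAlgHom g
    (Ideal.Quotient.algHom_ext k (AlgHom.ext fun a => CoalgHomClass.counit_comp_apply q a))
    (Ideal.Quotient.algHom_ext k (AlgHom.ext fun a => by
      show Algebra.TensorProduct.map g g (Coalgebra.comul (R := k) (Ideal.Quotient.mk J a)) =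
        Coalgebra.comul (R := k) (q a)
      rw [Bialgebra.Quotient.comul_mk, ← CoalgHomClass.map_comp_comul_apply q a]
      induction Coalgebra.comul (R := k) a with
      | zero => simp
      | add x y hx hy => simp only [map_add, hx, hy]
      | tmul x y => rfl))
  refine isUnipotent_of_hasFlag (hasFlag_of_surjective (π := (gc : (A ⧸ J) →ₗc[k] (A' ⧸ J'))) ?_ ?_
    (hasFlag_of_isUnipotent hU))
  · intro y
    obtain ⟨a', rfl⟩ := Ideal.Quotient.mk_surjective y
    obtain ⟨a, rfl⟩ := hp a'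
    exact ⟨Ideal.Quotient.mk J a, hg a⟩
  · rintro x rfl
    exact map_one gc

theorem exists_retraction [IsAlgClosed k] [IsNoetherianRing A] (hB : SGA3b.IsDiag k B) (ψ : B →ₐc[k] A)
    (hψ : Function.Injective ψ) (J : Ideal A) [J.IsHopfIdeal k]
    (hJ : J = Ideal.map (ψ : B →+* A) (RingHom.ker (Bialgebra.counitAlgHom k B)))
    (hU : HopfRep.IsUnipotent k (A ⧸ J)) : ∃ r : A →ₐc[k] B, r.comp ψ = BialgHom.id k B := by
  obtain ⟨M, _, ⟨e⟩⟩ := hB
  let S : Set (Ideal A) := {I | I.IsHopfIdeal k ∧ Ideal.comap (ψ : B →+* A) I = ⊥}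
  have hS : S.Nonempty := by
    refine ⟨⊥, ?_, ?_⟩
    · refine { toIsCoideal := ⟨fun x hx => ?_, fun x hx => ?_⟩, antipode_mem := fun x hx => ?_ }
      · rw [(Submodule.mem_bot _).1 hx, map_zero]
      · rw [(Submodule.mem_bot _).1 hx, map_zero, map_zero]
      · rw [Ideal.mem_bot.1 hx, map_zero]; exact zero_mem _
    · rw [eq_bot_iff]
      intro b hb
      exact hψ (hb.trans (map_zero ψ).symm)
  obtain ⟨I₀, ⟨hI₀, hI₀ψ⟩, hmax⟩ := (wellFounded_gt (α := Ideal A)).has_min S hS
  haveI := hI₀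
  let π₀ := Bialgebra.Quotient.mkBialgHom (R := k) I₀
  have hπ₀ : Function.Surjective π₀ := Ideal.Quotient.mk_surjective
  let ψ₀ : B →ₐc[k] (A ⧸ I₀) := π₀.comp ψ
  have hψ₀ : Function.Injective ψ₀ := by
    rw [injective_iff_map_eq_zero]
    intro b hb
    have : b ∈ Ideal.comap (ψ : B →+* A) I₀ := (Ideal.Quotient.eq_zero_iff_mem (a := ψ b) (I := I₀)).1 hb
    rwa [hI₀ψ] at this
  let J₀ : Ideal (A ⧸ I₀) := Ideal.map (ψ₀ : B →+* (A ⧸ I₀)) (RingHom.ker (Bialgebra.counitAlgHom k B))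
  haveI : J₀.IsHopfIdeal k := Groth.Agent.S7967.isHopfIdeal_map_ker ψ₀ J₀ rfl
  have hJJ₀ : J ≤ J₀.comap (π₀ : A →ₐ[k] A ⧸ I₀) := by
    rw [hJ, Ideal.map_le_iff_le_comap]
    intro b hb
    exact Ideal.mem_map_of_mem (ψ₀ : B →+* (A ⧸ I₀)) hb
  have hU₀ := isUnipotent_quotient π₀ hπ₀ J J₀ hJJ₀ hU
  have hsurj : Function.Surjective ψ₀ := by
    refine surjective_of_minimal (ψ := ψ₀) (J := J₀) rfl (GLBasis.ofEquiv e) hψ₀ hU₀ fun I hI hI0 => ?_
    haveI := hI
    have hc := isHopfIdeal_comap π₀ I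
    have hle : I₀ ≤ I.comap (π₀ : A →ₐ[k] A ⧸ I₀) := fun a ha => by
      show π₀ a ∈ I
      rw [show π₀ a = 0 from Ideal.Quotient.eq_zero_iff_mem.2 ha]
      exact zero_mem _
    have hmem : I.comap (π₀ : A →ₐ[k] A ⧸ I₀) ∈ S := ⟨hc, hI0⟩
    rcases hle.eq_or_lt with heq | hlt
    · rw [eq_bot_iff]
      intro y hy
      obtain ⟨a, rfl⟩ := hπ₀ y
      rw [Ideal.mem_bot]
      exact Ideal.Quotient.eq_zero_iff_mem.2 (heq ▸ hy)
    · exact absurd hlt (hmax _ hmem)
  let E := BialgEquiv.ofBijective ψ₀ ⟨hψ₀, hsurj⟩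
  refine ⟨(E.symm : (A ⧸ I₀) →ₐc[k] B).comp π₀, BialgHom.ext fun b => ?_⟩
  exact E.symm_apply_apply b

end Groth.L01.UnipSplit
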