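import Groth.Agent.L01.UnipSplit.Split
import Groth.Agent.L01.UnipSplit.SmoothKer

/-!
# Sections of an extension of a diagonalisable group by a unipotent group are conjugate
-/

set_option autoImplicit false

universe u

open TensorProduct WithConv Groth.L08 Polynomial

noncomputable section

namespace Groth.L01.UnipSplit

open Groth.L01.SmoothKer (IsPrim)

variable {k : Type u} [Field k] {A B : Type u} [CommRing A] [HopfAlgebra k A] [CommRing B] [HopfAlgebra k B]
  {M : Type u} [CommGroup M] (d : GLBasis k B M) (ψ : B →ₐc[k] A)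

/-- An algebra map respecting the convolution of points. -/
def IsHom (ρ : A →ₐ[k] B) : Prop :=
  ∀ (R : Type u) [CommRing R] [Algebra k R] (x y : WithConv (B →ₐ[k] R)),
    toConv ((x * y).ofConv.comp ρ) = toConv (x.ofConv.comp ρ) * toConv (y.ofConv.comp ρ)

/-- A section of the projection. -/
def IsSection (ρ : A →ₐ[k] B) : Prop := IsHom ρ ∧ ∀ b, ρ (ψ b) = b

/-- A rational point as a point with values in an algebra. -/
def cstPt (R : Type u) [CommRing R] [Algebra k R] (u : WithConv (A →ₐ[k] k)) : WithConv (A →ₐ[k] R) :=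
  toConv ((Algebra.ofId k R).comp u.ofConv)

theorem cstPt_mul (R : Type u) [CommRing R] [Algebra k R] (u v : WithConv (A →ₐ[k] k)) :
    cstPt R (u * v) = cstPt R u * cstPt R v := post_mul (Algebra.ofId k R) u v

theorem pinv_cstPt (R : Type u) [CommRing R] [Algebra k R] (u : WithConv (A →ₐ[k] k)) :
    pinv (cstPt R u) = cstPt R (pinv u) := rfl

theorem pinv_mul_rev {R : Type u} [CommRing R] [Algebra k R] (g h : WithConv (A →ₐ[k] R)) :
    pinv (g * h) = pinv h * pinv g :=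
  left_inv_eq_right_inv (pinv_mul (g * h)) (by rw [mul_assoc, ← mul_assoc h, mul_pinv h, one_mul, mul_pinv g])

theorem comp_cstPt {R S : Type u} [CommRing R] [Algebra k R] [CommRing S] [Algebra k S] (f : R →ₐ[k] S)
    (u : WithConv (A →ₐ[k] k)) : toConv (f.comp (cstPt R u).ofConv) = cstPt S u :=
  WithConv.ofConv_injective (AlgHom.ext fun a => f.commutes _)

/-- Conjugate of a section by a rational point. -/
def conjPt (u : WithConv (A →ₐ[k] k)) (ρ : A →ₐ[k] B) : A →ₐ[k] B :=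
  (cstPt B u * toConv ρ * pinv (cstPt B u)).ofConv

theorem conjPt_mul (u v : WithConv (A →ₐ[k] k)) (ρ : A →ₐ[k] B) :
    conjPt (u * v) ρ = conjPt u (conjPt v ρ) := by
  show (cstPt B (u * v) * toConv ρ * pinv (cstPt B (u * v))).ofConv =
    (cstPt B u * (cstPt B v * toConv ρ * pinv (cstPt B v)) * pinv (cstPt B u)).ofConv
  rw [cstPt_mul, pinv_mul_rev]
  simp only [mul_assoc]

theorem conjPt_one (ρ : A →ₐ[k] B) : conjPt (1 : WithConv (A →ₐ[k] k)) ρ = ρ := by
  have h : cstPt (A := A) B (1 : WithConv (A →ₐ[k] k)) = 1 := post_one _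
  simp [conjPt, h, pinv_one]

variable {ψ}

theorem IsSection.conjPt {ρ : A →ₐ[k] B} (h : IsSection ψ ρ) {u : WithConv (A →ₐ[k] k)} (hu : IsKer ψ u) :
    IsSection ψ (Groth.L01.UnipSplit.conjPt u ρ) := by
  refine ⟨fun R _ _ x y => ?_, fun b => ?_⟩
  · have e : ∀ z : WithConv (B →ₐ[k] R), toConv (z.ofConv.comp (Groth.L01.UnipSplit.conjPt u ρ)) =
        cstPt R u * toConv (z.ofConv.comp ρ) * pinv (cstPt R u) := by
      intro z
      show toConv (z.ofConv.comp (cstPt B u * toConv ρ * pinv (cstPt B u)).ofConv) = _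
      rw [post_mul, post_mul, pinv_cstPt, comp_cstPt, comp_cstPt, ← pinv_cstPt]
    rw [e, e, e, h.1]
    simp only [mul_assoc]
    rw [← mul_assoc (pinv (cstPt R u)), pinv_mul, one_mul]
  · have hc : IsKer ψ (cstPt B u) := hu.post _
    have e : toConv ((Groth.L01.UnipSplit.conjPt u ρ).comp (ψ : B →ₐ[k] A)) = toConv (ρ.comp (ψ : B →ₐ[k] A)) := by
      show toConv ((cstPt B u * toConv ρ * pinv (cstPt B u)).ofConv.comp (ψ : B →ₐ[k] A)) = _
      rw [pre_mul, pre_mul, show toConv ((cstPt B u).ofConv.comp (ψ : B →ₐ[k] A)) = 1 from hc,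
        show toConv ((pinv (cstPt B u)).ofConv.comp (ψ : B →ₐ[k] A)) = 1 from hc.pinv, one_mul, mul_one]
    exact (congrArg (fun w : WithConv (B →ₐ[k] B) => w.ofConv b) e).trans (h.2 b)

variable {d}

theorem IsSection.ch_eq {ρ : A →ₐ[k] B} (h : IsSection ψ ρ) (μ : M) : ch d ψ (toConv ρ) μ = d.b μ := h.2 _

theorem IsSection.apply_crossed {ρ : A →ₐ[k] B} (h : IsSection ψ ρ) {m : M} {F : A} (hF : Crossed d ψ m F) :
    ∃ s : k, ρ F = s • (d.b m - 1) := by
  refine exists_eq_smul (d := d) m (ρ F) ?_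
  let x : WithConv (B →ₐ[k] B ⊗[k] B) := toConv Algebra.TensorProduct.includeLeft
  let y : WithConv (B →ₐ[k] B ⊗[k] B) := toConv Algebra.TensorProduct.includeRight
  have e := congrArg (fun w : WithConv (A →ₐ[k] B ⊗[k] B) => w.ofConv F) (h.1 (B ⊗[k] B) x y)
  change (x * y).ofConv (ρ F) = (toConv (x.ofConv.comp ρ) * toConv (y.ofConv.comp ρ)).ofConv F at e
  rw [id_incl_mul, hF] at e
  rw [e]
  simp [x, y, ch, h.2]

theorem IsSection.exists_point_of_value {ρ : A →ₐ[k] B} (h : IsSection ψ ρ) {m : M} {F : A}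
    (hF : Crossed d ψ m F) {s : k} (hs : ρ F = s • (d.b m - 1)) {u : WithConv (A →ₐ[k] k)} (hu : IsKer ψ u)
    (huF : u.ofConv F = s) : Groth.L01.UnipSplit.conjPt u ρ F = 0 := by
  let c := cstPt B u
  have hc : IsKer ψ c := hu.post _
  have h1 : (pinv c).ofConv F = - c.ofConv F := by
    have := hF B (pinv c) c
    rw [pinv_mul, hF.one, ch_isKer hc.pinv, one_mul] at this
    exact eq_neg_of_add_eq_zero_left this.symm
  show (c * toConv ρ * pinv c).ofConv F = 0
  rw [hF, hF, ch_isKer hc, one_mul, h1, ch_mul_pt, ch_isKer hc, one_mul, h.ch_eq,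
    show c.ofConv F = algebraMap k B s from congrArg (algebraMap k B) huF]
  show _ + ρ F + _ = 0
  rw [hs, Algebra.smul_def]
  ring

variable {J : Ideal A} (hJ : J = Ideal.map (ψ : B →+* A) (RingHom.ker (Bialgebra.counitAlgHom k B)))
  [J.IsHopfIdeal k]

include hJ in
theorem isPrim_mk {a : A} (ha : Prim ψ a) : IsPrim (k := k) (Ideal.Quotient.mkₐ k J a) := by
  let π := Ideal.Quotient.mkₐ k J
  let n₁ : WithConv (A →ₐ[k] (A ⧸ J) ⊗[k] (A ⧸ J)) :=
    toConv ((Algebra.TensorProduct.includeLeft : A ⧸ J →ₐ[k] (A ⧸ J) ⊗[k] (A ⧸ J)).comp π)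
  let n₂ : WithConv (A →ₐ[k] (A ⧸ J) ⊗[k] (A ⧸ J)) :=
    toConv ((Algebra.TensorProduct.includeRight : A ⧸ J →ₐ[k] (A ⧸ J) ⊗[k] (A ⧸ J)).comp π)
  have h := ha _ n₁ n₂ ((isKer_mk J hJ).post _) ((isKer_mk J hJ).post _)
  rw [eval_incl] at h
  exact (Bialgebra.Quotient.comul_mk J a).trans h

include hJ in
theorem prim_of_isPrim {a : A} (ha : IsPrim (k := k) (Ideal.Quotient.mkₐ k J a)) : Prim ψ a := by
  intro R _ _ n₁ n₂ h₁ h₂
  let m₁ : WithConv ((A ⧸ J) →ₐ[k] R) := toConv (Ideal.Quotient.liftₐ J n₁.ofConv (h₁.kills hJ))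
  let m₂ : WithConv ((A ⧸ J) →ₐ[k] R) := toConv (Ideal.Quotient.liftₐ J n₂.ofConv (h₂.kills hJ))
  have h := congrArg (fun z : WithConv (A →ₐ[k] R) => z.ofConv a)
    (pre_mul (Bialgebra.Quotient.mkBialgHom (R := k) J) m₁ m₂)
  change (m₁ * m₂).ofConv (Ideal.Quotient.mkₐ k J a) = (n₁ * n₂).ofConv a at h
  rw [← h, AlgHom.convMul_apply, show Coalgebra.comul (R := k) (Ideal.Quotient.mkₐ k J a) = _ from ha]
  simp [m₁, m₂]

variable [IsAlgClosed k]

/-- Either the quotient is reduced, or the kernel is smooth and the characteristic positive. -/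
def SmoothCond (k B : Type u) [Field k] [CommRing B] (U : Type u) [CommRing U] [Algebra k U] : Prop :=
  IsReduced B ∨ (Algebra.FormallySmooth k U ∧ ∃ p : ℕ, p.Prime ∧ CharP k p)

variable [Algebra.FiniteType k A]

include hJ in
theorem exists_step (d : GLBasis k B M) (hψ : Function.Injective ψ) (hU : HopfRep.IsUnipotent k (A ⧸ J))
    (hsm : SmoothCond k B (A ⧸ J)) (hns : ¬ Function.Surjective ψ) :
    ∃ I : Ideal A, I.IsHopfIdeal k ∧ I ≠ ⊥ ∧ Ideal.comap (ψ : B →+* A) I = ⊥ ∧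
      SmoothCond k B (A ⧸ (I ⊔ J)) ∧
      ∀ ρ : A →ₐ[k] B, IsSection ψ ρ → ∃ u : WithConv (A →ₐ[k] k), IsKer ψ u ∧ ∀ a ∈ I, conjPt u ρ a = 0 := by
  classical
  haveI : Algebra.FiniteType k (A ⧸ J) :=
    Algebra.FiniteType.of_surjective (Ideal.Quotient.mkₐ k J) Ideal.Quotient.mk_surjective
  let m₂ := RingHom.ker (Bialgebra.counitAlgHom k (A ⧸ J)) ^ 2
  obtain ⟨a₁, hne⟩ : ∃ a : A, Ideal.Quotient.mkₐ k J a ≠ algebraMap k (A ⧸ J) (Coalgebra.counit (R := k) a) := by
    by_contra! hne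
    refine hns fun a₁ => Groth.L25.UnipExt.mem_range_of_fixed ψ hJ (a := a₁) ?_
    have h : (Ideal.Quotient.mkₐ k J).toLinearMap =
        Algebra.linearMap k (A ⧸ J) ∘ₗ Coalgebra.counit (R := k) (A := A) := LinearMap.ext hne
    rw [h]
    have h2 : ∀ w : A ⊗[k] A, TensorProduct.map LinearMap.id (Algebra.linearMap k (A ⧸ J) ∘ₗ
        Coalgebra.counit (R := k) (A := A)) w =
        (Algebra.linearMap k (A ⧸ J)).lTensor A ((Coalgebra.counit (R := k) (A := A)).lTensor A w) := by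
      intro w
      induction w with
      | zero => simp
      | add p q hp hq => simp only [map_add, hp, hq]
      | tmul p q => simp
    rw [h2, Coalgebra.lTensor_counit_comul, LinearMap.lTensor_tmul, Algebra.linearMap_apply, map_one]
  obtain ⟨a, ha, ha0⟩ := exists_prim ψ hJ hU ⟨a₁, hne⟩
  -- choose the eigenfunction
  obtain ⟨a', μ, hp', hp0, heig, hbest⟩ : ∃ (a' : A) (μ : M), Prim ψ a' ∧ Ideal.Quotient.mkₐ k J a' ≠ 0 ∧
      (∀ (R : Type u) [CommRing R] [Algebra k R] (g n : WithConv (A →ₐ[k] R)), IsKer ψ n →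
        (pinv g * n * g).ofConv a' = ch d ψ g μ * n.ofConv a') ∧
      (Ideal.Quotient.mkₐ k J a' ∉ m₂ ∨ ∀ g : A ⧸ J, IsPrim (k := k) g → g ∈ m₂) := by
    by_cases hA : ∃ (a' : A) (μ : M), Prim ψ a' ∧ Ideal.Quotient.mkₐ k J a' ∉ m₂ ∧
      ∀ (R : Type u) [CommRing R] [Algebra k R] (g n : WithConv (A →ₐ[k] R)), IsKer ψ n →
        (pinv g * n * g).ofConv a' = ch d ψ g μ * n.ofConv a'
    · obtain ⟨a', μ, h1, h2, h3⟩ := hA
      exact ⟨a', μ, h1, fun h => h2 (h ▸ zero_mem _), h3, Or.inl h2⟩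
    · obtain ⟨a', μ, h1, h2, h3⟩ := exists_eigen d ψ hψ hJ ha ha0
      refine ⟨a', μ, h1, h2, h3, Or.inr fun g hg => ?_⟩
      obtain ⟨b, rfl⟩ := Ideal.Quotient.mkₐ_surjective k J g
      obtain ⟨t, b', hsum, ht⟩ := exists_eigen_decomp d ψ hψ hJ (prim_of_isPrim hJ hg)
      rw [hsum]
      refine Ideal.sum_mem _ fun ν hν => ?_
      by_contra hno
      exact hA ⟨b' ν, ν, (ht ν hν).1, hno, (ht ν hν).2⟩
  obtain ⟨F₁, hF₁, hFn⟩ := exists_crossed d ψ hψ hJ hp' heig
  have hF₁' : Crossed d ψ μ⁻¹ F₁ := hF₁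
  have hπF₁ : Ideal.Quotient.mkₐ k J F₁ = Ideal.Quotient.mkₐ k J a' := hFn _ _ (isKer_mk J hJ)
  obtain ⟨F, hF, hπ, hq⟩ : ∃ F, Crossed d ψ μ⁻¹ F ∧ Ideal.Quotient.mkₐ k J F = Ideal.Quotient.mkₐ k J a' ∧
      (IsIntegral k (Ideal.Quotient.mkₐ k J F) → ((minpoly k (Ideal.Quotient.mkₐ k J F)).coeff 0 = 0 ∧
        aeval F (minpoly k (Ideal.Quotient.mkₐ k J F)) = 0) ∧
        IsAdditiveWeight d ψ μ⁻¹ (minpoly k (Ideal.Quotient.mkₐ k J F))) := by
    by_cases hint : IsIntegral k (Ideal.Quotient.mkₐ k J F₁)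
    · obtain ⟨F', h1, h2, h3, h4⟩ := exists_shift hJ hψ hF₁' (fun R _ _ g n hn => by
        refine ⟨pinv (pinv g) * n * pinv g, hn.conj _, ?_⟩
        rw [hFn R _ (hn.conj _), heig R _ n hn, ch_pinv, hFn R n hn]) hint
      exact ⟨F', h1, h2.trans hπF₁, fun _ => ⟨⟨h2 ▸ h3.1, h2 ▸ h3.2⟩, h2 ▸ h4⟩⟩
    · exact ⟨F₁, hF₁', hπF₁, fun h => absurd h hint⟩
  let m := μ⁻¹
  let f := Ideal.Quotient.mkₐ k J F
  have hf : IsPrim (k := k) f := by
    show IsPrim (k := k) (Ideal.Quotient.mkₐ k J F)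
    rw [hπ]; exact isPrim_mk hJ hp'
  let P : ∀ (R : Type u) [CommRing R] [Algebra k R], (A →ₐ[k] R) → Prop := fun R _ _ g => g F = 0
  have hrep : Dyn.Represents k A (Ideal.span {F}) P := by
    intro R _ _ g
    refine ⟨fun h => h F (Ideal.mem_span_singleton_self F), fun h a ha => ?_⟩
    obtain ⟨y, rfl⟩ := Ideal.mem_span_singleton'.1 ha
    rw [map_mul, show g F = 0 from h, mul_zero]
  have hI := isHopfIdeal_of_represents hrep (fun R _ _ => hF.one R)
    (fun R _ _ g h hg hh => by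
      show (g * h).ofConv F = 0
      rw [hF, show g.ofConv F = 0 from hg, show h.ofConv F = 0 from hh, mul_zero, add_zero])
    (fun R _ _ g hg => by
      show (pinv g).ofConv F = 0
      have h := hF R (pinv g) g
      rw [pinv_mul, hF.one, show g.ofConv F = 0 from hg, mul_zero, add_zero] at h
      exact h.symm)
  refine ⟨Ideal.span {F}, hI, fun h => hp0 ?_, comap_span_eq_bot hJ hψ hF (fun h => (hq h).1), ?_, ?_⟩
  · rw [← hπ, Ideal.span_singleton_eq_bot.1 h, map_zero]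
  · rcases hsm with hB | ⟨hfs, p, hp, hcp⟩
    · exact Or.inl hB
    refine Or.inr ⟨?_, p, hp, hcp⟩
    haveI := hfs
    haveI := hcp
    haveI : Fact p.Prime := ⟨hp⟩
    have hle : J ≤ Ideal.span {F} ⊔ J := le_sup_right
    let φ : (A ⧸ J) →ₐ[k] (A ⧸ (Ideal.span {F} ⊔ J)) := Ideal.Quotient.factorₐ k hle
    refine Groth.L01.SmoothKer.formallySmooth_quotient φ (Ideal.Quotient.factor_surjective hle) (f := f) ?_ hf ?_
    · show RingHom.ker (Ideal.Quotient.factor hle) = _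
      rw [Ideal.Quotient.factor_ker, Ideal.map_sup, Ideal.map_span, Set.image_singleton, Ideal.map_quotient_self,
        sup_bot_eq]
      rfl
    · rcases hbest with h | h
      · exact Or.inl (by show Ideal.Quotient.mkₐ k J F ∉ _; rw [hπ]; exact h)
      · exact Or.inr (Groth.L01.SmoothKer.mem_span_sq p h hf)
  intro ρ hρ
  obtain ⟨s, hs⟩ := hρ.apply_crossed hF
  obtain ⟨s, hs, hsf⟩ : ∃ s : k, ρ F = s • (d.b m - 1) ∧ ∀ p : k[X], aeval f p = 0 → eval s p = 0 := by
    by_cases hint : IsIntegral k f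
    · obtain ⟨⟨hq0, hqF⟩, hder, hadd, hwt, hscale⟩ := hq hint
      let q := minpoly k f
      suffices ∃ s : k, ρ F = s • (d.b m - 1) ∧ eval s q = 0 by
        obtain ⟨s, h1, h2⟩ := this
        refine ⟨s, h1, fun p hp => ?_⟩
        obtain ⟨r, rfl⟩ := minpoly.dvd k f hp
        rw [eval_mul, h2, zero_mul]
      by_cases hm : m = 1
      · refine ⟨0, ?_, ?_⟩
        · rw [hs, zero_smul, show μ⁻¹ = (1 : M) from hm, d.b_one, sub_self, smul_zero]
        · rw [← coeff_zero_eq_eval_zero]; exact hq0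
      refine ⟨s, hs, ?_⟩
      have hm' : m ^ q.natDegree ≠ 1 := by
        intro hD
        have hex : ∃ i, q.coeff i ≠ 0 :=
          ⟨q.natDegree, by rw [(minpoly.monic hint).coeff_natDegree]; exact one_ne_zero⟩
        let i := Nat.find hex
        have hi : q.coeff i ≠ 0 := Nat.find_spec hex
        have hi0 : 0 < i := Nat.pos_of_ne_zero fun h => hi (by rw [h]; exact hq0)
        have hone : ∀ j, q.coeff j ≠ 0 → m ^ j = 1 := fun j hj => by
          rcases lt_trichotomy j q.natDegree with hlt | rfl | hgt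
          · exact (hwt j hlt hj).trans hD
          · exact hD
          · exact absurd (coeff_eq_zero_of_natDegree_lt hgt) hj
        rcases hsm with hB | ⟨hfs, -⟩
        · haveI := hB
          have hch : ∀ j, j ∈ Finset.range i → j ≠ 0 → ((i.choose j : ℕ) : B) = 0 := by
            intro j hj hj0
            rw [Finset.mem_range] at hj
            have h := congrArg (fun r => coeff r (i - j)) (hder j (Nat.pos_of_ne_zero hj0))
            simp only [hasseDeriv_coeff, coeff_C, if_neg (show i - j ≠ 0 by omega),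
              Nat.sub_add_cancel hj.le] at h
            rw [← map_natCast (algebraMap k B), (mul_eq_zero.1 h).resolve_right hi, map_zero]
          have h1 := add_pow (d.b m - 1) 1 i
          rw [sub_add_cancel, Finset.sum_range_succ, Finset.sum_eq_single 0 (fun j hj hj0 => by
              rw [hch j hj hj0, mul_zero]) (fun h => absurd (Finset.mem_range.2 hi0) h)] at h1
          simp only [pow_zero, one_pow, Nat.choose_zero_right, Nat.cast_one, mul_one, Nat.choose_self] at h1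
          rw [show d.b m ^ i = d.b (m ^ i) by
            clear h1; induction i with
            | zero => rw [pow_zero, pow_zero, d.b_one]
            | succ n ih => rw [pow_succ, pow_succ, ih, d.b_mul], hone i hi, d.b_one, left_eq_add] at h1
          exact hm (d.b.injective ((sub_eq_zero.1 (IsReduced.eq_zero _ ⟨i, h1⟩)).trans d.b_one.symm))
        · haveI : IsReduced (A ⧸ J) := Groth.L01.SmoothKer.isReduced_of_formallySmooth hfs
          haveI : Nontrivial (A ⧸ J) := (Bialgebra.counitAlgHom k (A ⧸ J)).toRingHom.domain_nontrivial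
          suffices hc1 : q.coeff 1 ≠ 0 from hm (by simpa using hone 1 hc1)
          intro h1
          obtain ⟨r, hr⟩ : X ∣ q := X_dvd_iff.2 hq0
          have hr0 : r.coeff 0 = 0 := by rw [hr] at h1; simpa using h1
          obtain ⟨r', hr'⟩ : X ∣ r := X_dvd_iff.2 hr0
          have hf2 : aeval f (X * r') = 0 := by
            refine IsReduced.eq_zero _ ⟨2, ?_⟩
            have h := minpoly.aeval k f
            rw [show minpoly k f = X * (X * r') by rw [← hr']; exact hr, map_mul, map_mul, aeval_X] at h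
            rw [map_mul, aeval_X]
            linear_combination aeval f r' * h
          have hne : r' ≠ 0 := by
            rintro rfl
            exact minpoly.ne_zero hint (by rw [show minpoly k f = q from rfl, hr, hr', mul_zero, mul_zero])
          have hdeg := natDegree_le_natDegree (minpoly.degree_le_of_ne_zero k f (mul_ne_zero X_ne_zero hne) hf2)
          rw [show minpoly k f = X * (X * r') by rw [← hr']; exact hr, natDegree_mul X_ne_zero (mul_ne_zero X_ne_zero hne),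
            natDegree_X] at hdeg
          omega
      have h0 : aeval (ρ F) q = 0 := by rw [aeval_algHom_apply, hqF, map_zero]
      have h1 := hadd B (s • (d.b m - 1)) (algebraMap k B s)
      rw [← hs, h0, zero_add, show ρ F + algebraMap k B s = ch d ψ (toConv ρ) m * algebraMap k B s by
        rw [hρ.ch_eq, hs, Algebra.smul_def]; ring, hscale, ← ch_pow, hρ.ch_eq, aeval_algebraMap_apply,
        coe_aeval_eq_eval] at h1
      have h2 := congrArg (fun z => d.b.repr z (m ^ q.natDegree)) h1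
      simp only [Algebra.algebraMap_eq_smul_one, mul_smul_comm, mul_one, map_smul, Finsupp.smul_apply,
        ← d.b_one, Module.Basis.repr_self, Finsupp.single_eq_same, smul_eq_mul, Finsupp.single_eq_of_ne' hm'.symm,
        mul_zero] at h2
      rw [← d.b_mul, mul_one, show μ⁻¹ ^ _ = m ^ q.natDegree from rfl, Module.Basis.repr_self,
        Finsupp.single_eq_same, mul_one] at h2
      exact h2
    · refine ⟨s, hs, fun p hp => ?_⟩
      by_cases h0 : p = 0
      · simp [h0]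
      · exact absurd (isAlgebraic_iff_isIntegral.1 ⟨p, h0, hp⟩) hint
  obtain ⟨u₀, hu₀⟩ := Groth.L01.SmoothKer.exists_point hf s hsf
  let u : WithConv (A →ₐ[k] k) := toConv (u₀.comp (Ideal.Quotient.mkₐ k J))
  have hu : IsKer ψ u := (isKer_mk J hJ).post u₀
  refine ⟨u, hu, fun a ha => ?_⟩
  obtain ⟨y, rfl⟩ := Ideal.mem_span_singleton'.1 ha
  rw [map_mul, hρ.exists_point_of_value hF hs hu hu₀, mul_zero]

omit [J.IsHopfIdeal k] in
include hJ in
theorem map_eq {A₀ : Type u} [CommRing A₀] [HopfAlgebra k A₀] (π₀ : A →ₐc[k] A₀) :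
    J.map (π₀ : A →+* A₀) = Ideal.map ((π₀.comp ψ : B →ₐc[k] A₀) : B →+* A₀) (RingHom.ker (Bialgebra.counitAlgHom k B)) := by
  rw [hJ, Ideal.map_map]
  rfl

include hJ in
theorem exists_conj (d : GLBasis k B M) (hU : HopfRep.IsUnipotent k (A ⧸ J)) :
    ∀ I : Ideal A, I.IsHopfIdeal k → Ideal.comap (ψ : B →+* A) I = ⊥ → SmoothCond k B (A ⧸ (I ⊔ J)) →
      ∀ ρ' ρ'' : A →ₐ[k] B, IsSection ψ ρ' → IsSection ψ ρ'' → (∀ a ∈ I, ρ' a = 0) → (∀ a ∈ I, ρ'' a = 0) →
        ∃ u : WithConv (A →ₐ[k] k), IsKer ψ u ∧ ρ'' = conjPt u ρ' := by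
  haveI : IsNoetherianRing A := Algebra.FiniteType.isNoetherianRing k A
  intro I
  induction I using (wellFounded_gt (α := Ideal A)).induction with
  | _ I ih =>
  intro hI hIψ hsm ρ' ρ'' h' h'' k' k''
  haveI := hI
  let π₀ := Bialgebra.Quotient.mkBialgHom (R := k) I
  have hπ₀ : Function.Surjective π₀ := Ideal.Quotient.mk_surjective
  let ψ₀ : B →ₐc[k] (A ⧸ I) := π₀.comp ψ
  have hψ₀ : Function.Injective ψ₀ := by
    rw [injective_iff_map_eq_zero]
    intro b hb
    have : b ∈ Ideal.comap (ψ : B →+* A) I := (Ideal.Quotient.eq_zero_iff_mem (a := ψ b) (I := I)).1 hb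
    rwa [hIψ] at this
  by_cases hsurj : Function.Surjective ψ₀
  · refine ⟨1, IsKer.one, AlgHom.ext fun a => ?_⟩
    obtain ⟨b, hb⟩ := hsurj (π₀ a)
    have hmem : a - ψ b ∈ I := Ideal.Quotient.eq.1 hb.symm
    rw [conjPt_one, ← sub_add_cancel a (ψ b), map_add, map_add, k'' _ hmem, k' _ hmem, h''.2, h'.2]
  let J₀ : Ideal (A ⧸ I) := Ideal.map (ψ₀ : B →+* (A ⧸ I)) (RingHom.ker (Bialgebra.counitAlgHom k B))
  have hJ₀ : J₀ = J.map (π₀ : A →+* A ⧸ I) := (map_eq hJ π₀).symm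
  haveI : J₀.IsHopfIdeal k := Groth.Agent.S7967.isHopfIdeal_map_ker ψ₀ J₀ rfl
  have hU₀ := isUnipotent_quotient π₀ hπ₀ J J₀ (hJ₀ ▸ Ideal.le_comap_map) hU
  haveI : Algebra.FiniteType k (A ⧸ I) :=
    Algebra.FiniteType.of_surjective (Ideal.Quotient.mkₐ k I) Ideal.Quotient.mk_surjective
  have htrans : ∀ (L : Ideal (A ⧸ I)) (L₁ : Ideal A), L₁ = L.comap (π₀ : A →+* A ⧸ I) →
      Nonempty ((A ⧸ L₁) ≃ₐ[k] (A ⧸ I) ⧸ L) := by
    intro L L₁ hL
    let φ : A →ₐ[k] (A ⧸ I) ⧸ L := (Ideal.Quotient.mkₐ k L).comp (π₀ : A →ₐ[k] A ⧸ I)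
    have hφ : Function.Surjective φ := (Ideal.Quotient.mk_surjective (I := L)).comp hπ₀
    have h : L₁ = RingHom.ker φ.toRingHom := by
      rw [hL]; ext a; exact (Ideal.Quotient.eq_zero_iff_mem (I := L) (a := π₀ a)).symm
    exact ⟨(Ideal.quotientEquivAlgOfEq k h).trans (Ideal.quotientKerAlgEquivOfSurjective hφ)⟩
  have hker : RingHom.ker (π₀ : A →+* A ⧸ I) = I := Ideal.mk_ker
  have hsm₀ : SmoothCond k B ((A ⧸ I) ⧸ J₀) := by
    rcases hsm with hB | ⟨hfs, hp⟩
    · exact Or.inl hB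
    · haveI := hfs
      obtain ⟨e⟩ := htrans J₀ (I ⊔ J) (by
        rw [hJ₀, Ideal.comap_map_of_surjective (π₀ : A →+* A ⧸ I) hπ₀, ← RingHom.ker_eq_comap_bot, hker, sup_comm])
      exact Or.inr ⟨Algebra.FormallySmooth.of_equiv e, hp⟩
  obtain ⟨I', hI', hI'ne, hI'ψ, hI'sm, hstep⟩ := exists_step (ψ := ψ₀) (J := J₀) rfl d hψ₀ hU₀ hsm₀ hsurj
  haveI := hI'
  let I₁ := I'.comap (π₀ : A →ₐ[k] A ⧸ I)
  have hI₁ : I₁.IsHopfIdeal k := isHopfIdeal_comap π₀ I'
  have hle : I ≤ I₁ := fun a ha => by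
    show π₀ a ∈ I'
    rw [show π₀ a = 0 from Ideal.Quotient.eq_zero_iff_mem.2 ha]
    exact zero_mem _
  have hlt : I < I₁ := by
    refine lt_of_le_of_ne hle fun h => hI'ne (eq_bot_iff.2 fun y hy => ?_)
    obtain ⟨a, rfl⟩ := hπ₀ y
    exact Ideal.mem_bot.2 (Ideal.Quotient.eq_zero_iff_mem.2 (h ▸ hy))
  have hI₁sm : SmoothCond k B (A ⧸ (I₁ ⊔ J)) := by
    rcases hI'sm with hB | ⟨hfs, hp⟩
    · exact Or.inl hB
    · haveI := hfs
      obtain ⟨e⟩ := htrans (I' ⊔ J₀) (I₁ ⊔ J) (by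
        rw [hJ₀]
        conv_rhs => rw [← Ideal.map_comap_of_surjective (π₀ : A →+* A ⧸ I) hπ₀ I', ← Ideal.map_sup,
          Ideal.comap_map_of_surjective (π₀ : A →+* A ⧸ I) hπ₀, ← RingHom.ker_eq_comap_bot, hker]
        exact (sup_eq_left.2 (hle.trans le_sup_left)).symm)
      exact Or.inr ⟨Algebra.FormallySmooth.of_equiv e.symm, hp⟩
  have hred : ∀ ρ : A →ₐ[k] B, IsSection ψ ρ → (∀ a ∈ I, ρ a = 0) →
      ∃ u : WithConv (A →ₐ[k] k), IsKer ψ u ∧ ∀ a ∈ I₁, conjPt u ρ a = 0 := by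
    intro ρ hρ hk
    let ρ₀ : (A ⧸ I) →ₐ[k] B := Ideal.Quotient.liftₐ I ρ hk
    have hρ₀ : IsSection ψ₀ ρ₀ := by
      refine ⟨fun R _ _ x y => WithConv.ofConv_injective (Ideal.Quotient.algHom_ext k ?_), hρ.2⟩
      refine (congrArg WithConv.ofConv (hρ.1 R x y) : (x * y).ofConv.comp ρ = _).trans ?_
      exact (congrArg WithConv.ofConv
        (pre_mul π₀ (toConv (x.ofConv.comp ρ₀)) (toConv (y.ofConv.comp ρ₀)))).symm
    obtain ⟨u₀, hu₀, hu⟩ := hstep ρ₀ hρ₀
    let u : WithConv (A →ₐ[k] k) := toConv (u₀.ofConv.comp (π₀ : A →ₐ[k] A ⧸ I))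
    refine ⟨u, hu₀, fun a ha => ?_⟩
    have e : toConv ((conjPt u₀ ρ₀).comp (π₀ : A →ₐ[k] A ⧸ I)) = toConv (conjPt u ρ) := by
      show toConv ((cstPt B u₀ * toConv ρ₀ * pinv (cstPt B u₀)).ofConv.comp (π₀ : A →ₐ[k] A ⧸ I)) = _
      rw [pre_mul, pre_mul, pre_pinv]
      rfl
    exact (congrArg (fun w : WithConv (A →ₐ[k] B) => w.ofConv a) e).symm.trans (hu _ ha)
  obtain ⟨u', hu', ku'⟩ := hred ρ' h' k'
  obtain ⟨u'', hu'', ku''⟩ := hred ρ'' h'' k''
  obtain ⟨w, hw, he⟩ := ih I₁ hlt hI₁ hI'ψ hI₁sm _ _ (h'.conjPt hu') (h''.conjPt hu'') ku' ku''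
  refine ⟨pinv u'' * (w * u'), (hu''.pinv).mul (hw.mul hu'), ?_⟩
  rw [conjPt_mul, conjPt_mul, ← he, ← conjPt_mul, pinv_mul, conjPt_one]

end Groth.L01.UnipSplit
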