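import Groth.Agent.L01.UnipSplit.Main
import Mathlib.RingTheory.Flat.FaithfullyFlat.Algebra
import Mathlib.FieldTheory.Minpoly.Field
import Mathlib.Algebra.Polynomial.Div
import Mathlib.LinearAlgebra.TensorProduct.Basis

/-!
# A minimal subgroup surjecting onto a diagonalisable quotient maps isomorphically
-/

set_option autoImplicit false

universe u

open TensorProduct WithConv Groth.L08 Polynomial

noncomputable section

namespace Groth.L01.UnipSplit

variable {k : Type u} [Field k] {A B : Type u} [CommRing A] [HopfAlgebra k A] [CommRing B] [HopfAlgebra k B]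
  {M : Type u} [CommGroup M] (d : GLBasis k B M) (ψ : B →ₐc[k] A)

/-- A crossed homomorphism to the additive group twisted by a character. -/
def Crossed (m : M) (F : A) : Prop :=
  ∀ (R : Type u) [CommRing R] [Algebra k R] (g h : WithConv (A →ₐ[k] R)),
    (g * h).ofConv F = g.ofConv F + ch d ψ g m * h.ofConv F

theorem id_incl_mul (x : A) :
    (toConv (Algebra.TensorProduct.includeLeft : A →ₐ[k] A ⊗[k] A) *
      toConv (Algebra.TensorProduct.includeRight : A →ₐ[k] A ⊗[k] A)).ofConv x = Coalgebra.comul (R := k) x := by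
  have h := eval_incl (AlgHom.id k A) (AlgHom.id k A) x
  simpa using h

variable {d ψ} {m : M} {F : A}

theorem Crossed.one (hF : Crossed d ψ m F) (R : Type u) [CommRing R] [Algebra k R] :
    (1 : WithConv (A →ₐ[k] R)).ofConv F = 0 := by
  have h := hF R 1 1
  rwa [one_mul, ch_isKer IsKer.one, one_mul, left_eq_add] at h

theorem Crossed.comul (hF : Crossed d ψ m F) :
    Coalgebra.comul (R := k) F = F ⊗ₜ[k] 1 + ψ (d.b m) ⊗ₜ[k] F := by
  have h := hF (A ⊗[k] A) (toConv Algebra.TensorProduct.includeLeft) (toConv Algebra.TensorProduct.includeRight)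
  rw [id_incl_mul] at h
  rw [h]
  simp [ch]

theorem Crossed.antipode (hF : Crossed d ψ m F) :
    HopfAlgebraStruct.antipode k F = - (ψ (d.b m⁻¹) * F) := by
  have h := hF A (pinv (toConv (AlgHom.id k A))) (toConv (AlgHom.id k A))
  rw [pinv_mul, hF.one, ch_pinv] at h
  exact eq_neg_of_add_eq_zero_left h.symm

theorem mul_isKer_apply {R : Type u} [CommRing R] [Algebra k R] (g : WithConv (A →ₐ[k] R))
    {n : WithConv (A →ₐ[k] R)} (hn : IsKer ψ n) (b : B) : (g * n).ofConv (ψ b) = g.ofConv (ψ b) := by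
  have h := pre_mul ψ g n
  rw [show toConv (n.ofConv.comp (ψ : B →ₐ[k] A)) = 1 from hn, mul_one] at h
  exact congrArg (fun w : WithConv (B →ₐ[k] R) => w.ofConv b) h

variable {J : Ideal A} (hJ : J = Ideal.map (ψ : B →+* A) (RingHom.ker (Bialgebra.counitAlgHom k B)))

section Eval

variable (ψ)

/-- Evaluation of polynomials over `B` at an element of `A`. -/
def ev (F : A) : B[X] →ₐ[k] A :=
  { eval₂RingHom (ψ : B →+* A) F with
    commutes' := fun c => by
      show eval₂ (ψ : B →+* A) F (algebraMap k B[X] c) = _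
      rw [Polynomial.algebraMap_apply, eval₂_C]
      exact (ψ : B →ₐ[k] A).commutes c }

theorem ev_apply (F : A) (P : B[X]) : ev ψ F P = P.eval₂ (ψ : B →+* A) F := rfl

theorem ev_map (F : A) (p : k[X]) : ev ψ F (p.map (algebraMap k B)) = aeval F p := by
  rw [ev_apply, eval₂_map, aeval_def]
  congr 1
  exact RingHom.ext fun c => (ψ : B →ₐ[k] A).commutes c

end Eval

include hJ in
/-- Polynomials of small degree over `B` do not vanish at `F`. -/
theorem eq_zero_of_ev (hψ : Function.Injective ψ) (hF : Crossed d ψ m F) {N : ℕ}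
    (hind : ∀ p : k[X], p.natDegree < N → aeval (Ideal.Quotient.mkₐ k J F) p = 0 → p = 0)
    {P : B[X]} (hP : P.natDegree < N) (h0 : ev ψ F P = 0) : P = 0 := by
  let π := Ideal.Quotient.mkₐ k J
  let g : WithConv (A →ₐ[k] A ⊗[k] (A ⧸ J)) := toConv Algebra.TensorProduct.includeLeft
  let n : WithConv (A →ₐ[k] A ⊗[k] (A ⧸ J)) := toConv (Algebra.TensorProduct.includeRight.comp π)
  let iL : A →+* A ⊗[k] (A ⧸ J) := Algebra.TensorProduct.includeLeftRingHom
  have hn : IsKer ψ n := (isKer_mk J hJ).post _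
  let χ := ψ (d.b m)
  let L : A[X] := C F + C χ * X
  let T : A[X] := (P.map (ψ : B →+* A)).comp L
  have hT : T.natDegree < N := by
    refine lt_of_le_of_lt natDegree_comp_le (lt_of_le_of_lt ?_ hP)
    have hL : L.natDegree ≤ 1 := by
      refine natDegree_add_le_of_degree_le ?_ ?_
      · rw [natDegree_C]; omega
      · exact natDegree_C_mul_le _ _ |>.trans natDegree_X_le
    calc _ ≤ P.natDegree * 1 := Nat.mul_le_mul natDegree_map_le hL
      _ = _ := mul_one _
  have hev : eval₂ iL ((1 : A) ⊗ₜ[k] π F) T = 0 := by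
    have h1 := congrArg (g * n).ofConv h0
    rw [map_zero, ev_apply] at h1
    have h2 := hom_eval₂ P (ψ : B →+* A) ((g * n).ofConv : A →+* A ⊗[k] (A ⧸ J)) F
    have h3 : ((g * n).ofConv : A →+* A ⊗[k] (A ⧸ J)).comp (ψ : B →+* A) = iL.comp (ψ : B →+* A) :=
      RingHom.ext fun b => mul_isKer_apply g hn b
    have h4 : (g * n).ofConv F = eval₂ iL ((1 : A) ⊗ₜ[k] π F) L := by
      rw [hF _ g n]
      simp [L, iL, g, n, ch, χ]
    simp only [T]
    rw [eval₂_comp, eval₂_map, ← h4, ← h3]
    exact h2.symm.trans h1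
  have hT0 : T = 0 := by
    refine Polynomial.ext fun i => ?_
    rw [coeff_zero]
    by_cases hi : i < N
    · refine coeff_eq_zero_of_sum (π F) N hind (fun j => T.coeff j) ?_ i hi
      rw [← hev, eval₂_eq_sum_range' iL hT]
      exact Finset.sum_congr rfl fun j _ => by simp [iL]
    · exact coeff_eq_zero_of_natDegree_lt (by omega)
  have hinv : ψ (d.b m⁻¹) * χ = 1 := by
    rw [← map_mul, ← d.b_mul, inv_mul_cancel, d.b_one, map_one]
  have h5 : (P.map (ψ : B →+* A)) = T.comp (C (ψ (d.b m⁻¹)) * (X - C F)) := by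
    simp only [T, comp_assoc]
    have : L.comp (C (ψ (d.b m⁻¹)) * (X - C F)) = X := by
      simp only [L, add_comp, mul_comp, C_comp, X_comp]
      rw [← mul_assoc, ← C_mul, mul_comm χ, hinv, C_1, one_mul]
      ring
    rw [this, comp_X]
  rw [hT0, zero_comp] at h5
  exact map_injective (ψ : B →+* A) hψ (by rw [h5, Polynomial.map_zero])

theorem isHopfSubalgebra_ev (hF : Crossed d ψ m F) : SGA3.IsHopfSubalgebra k A (ev ψ F).range := by
  let B' := (ev ψ F).range
  let i := Algebra.TensorProduct.map B'.val B'.val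
  let S₁ := i.range.comap (Bialgebra.comulAlgHom k A)
  let S₂ := B'.comap (HopfAlgebra.antipodeAlgHom k A)
  have hψB : ∀ b, ψ b ∈ B' := fun b => ⟨C b, by simp [ev_apply]⟩
  have hFB : F ∈ B' := ⟨X, by simp [ev_apply]⟩
  have h1 : ∀ b, ψ b ∈ S₁ ⊓ S₂ := fun b => by
    refine ⟨?_, ?_⟩
    · show Coalgebra.comul (R := k) (ψ b) ∈ i.range
      rw [← CoalgHomClass.map_comp_comul_apply ψ b]
      induction Coalgebra.comul (R := k) b using TensorProduct.induction_on with
      | zero => simp
      | add p q hp hq => rw [map_add]; exact add_mem hp hq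
      | tmul p q => exact ⟨(⟨ψ p, hψB p⟩ : B') ⊗ₜ[k] (⟨ψ q, hψB q⟩ : B'), rfl⟩
    · show HopfAlgebraStruct.antipode k (ψ b) ∈ B'
      rw [← Groth.L25.Char.bialgHom_antipode ψ b]
      exact hψB _
  have h2 : F ∈ S₁ ⊓ S₂ := by
    refine ⟨?_, ?_⟩
    · show Coalgebra.comul (R := k) F ∈ i.range
      rw [hF.comul]
      exact ⟨(⟨F, hFB⟩ : B') ⊗ₜ[k] (1 : B') + (⟨ψ (d.b m), hψB _⟩ : B') ⊗ₜ[k] (⟨F, hFB⟩ : B'), by simp [i]⟩
    · show HopfAlgebraStruct.antipode k F ∈ B'
      rw [hF.antipode]
      exact neg_mem (mul_mem (hψB _) hFB)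
  have h3 : B' ≤ S₁ ⊓ S₂ := by
    rintro _ ⟨P, rfl⟩
    show P.eval₂ (ψ : B →+* A) F ∈ S₁ ⊓ S₂
    induction P using Polynomial.induction_on' with
    | add p q hp hq => rw [eval₂_add]; exact add_mem hp hq
    | monomial n b => rw [eval₂_monomial]; exact mul_mem (h1 b) (pow_mem h2 n)
  exact ⟨fun b hb => (h3 hb).1, fun b hb => (h3 hb).2⟩

include hJ in
/-- A subgroup cut out by a crossed homomorphism still surjects onto the quotient. -/
theorem comap_span_eq_bot [J.IsHopfIdeal k] (hψ : Function.Injective ψ) (hF : Crossed d ψ m F)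
    (hq : IsIntegral k (Ideal.Quotient.mkₐ k J F) →
      (minpoly k (Ideal.Quotient.mkₐ k J F)).coeff 0 = 0 ∧ aeval F (minpoly k (Ideal.Quotient.mkₐ k J F)) = 0) :
    Ideal.comap (ψ : B →+* A) (Ideal.span {F}) = ⊥ := by
  rw [eq_bot_iff]
  intro b hb
  rw [Ideal.mem_bot]
  let B' := (ev ψ F).range
  haveI : Module.FaithfullyFlat B' A := Groth.L25.HopfFlat.faithfullyFlat _ (isHopfSubalgebra_ev hF)
  let F' : B' := ⟨F, X, by simp [ev_apply]⟩
  have hmem : (⟨ψ b, C b, by simp [ev_apply]⟩ : B') ∈ Ideal.span {F'} := by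
    rw [← Ideal.comap_map_eq_self_of_faithfullyFlat (B := A) (Ideal.span {F'}), Ideal.mem_comap,
      Ideal.map_span, Set.image_singleton]
    exact hb
  obtain ⟨⟨_, Q, rfl⟩, hy⟩ := Ideal.mem_span_singleton'.1 hmem
  have hy' : ev ψ F Q * F = ψ b := congrArg Subtype.val hy
  let P : B[X] := C b - Q * X
  have hP0 : ev ψ F P = 0 := by
    rw [map_sub, map_mul, show ev ψ F X = F by rw [ev_apply, eval₂_X], hy', ev_apply, eval₂_C]
    simp
  have hcoeff : P.coeff 0 = b := by simp [P]
  let f := Ideal.Quotient.mkₐ k J F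
  by_cases hint : IsIntegral k f
  · let q := minpoly k f
    obtain ⟨hq0, hqF⟩ := hq hint
    let qB := q.map (algebraMap k B)
    have hmon : qB.Monic := (minpoly.monic hint).map _
    by_cases hB : Subsingleton B
    · exact Subsingleton.elim _ _
    haveI : Nontrivial B := not_subsingleton_iff_nontrivial.1 hB
    have hdeg : qB.natDegree = q.natDegree := (minpoly.monic hint).natDegree_map _
    have hr : P %ₘ qB = 0 := by
      refine eq_zero_of_ev hJ hψ hF (N := q.natDegree) (fun p hp hp0 => ?_) ?_ ?_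
      · by_contra hne
        exact absurd (natDegree_le_natDegree (minpoly.degree_le_of_ne_zero k f hne hp0)) (not_le.2 hp)
      · haveI : Nontrivial (A ⧸ J) := (Bialgebra.counitAlgHom k (A ⧸ J)).toRingHom.domain_nontrivial
        rw [← hdeg]
        refine natDegree_modByMonic_lt _ hmon fun h => ?_
        have := congrArg natDegree h
        rw [natDegree_one, hdeg] at this
        exact (minpoly.natDegree_pos hint).ne' this
      · have h := congrArg (ev ψ F) (modByMonic_add_div P qB)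
        rwa [map_add, map_mul, ev_map, hqF, zero_mul, add_zero, hP0] at h
    have h := modByMonic_add_div P qB
    rw [hr, zero_add] at h
    rw [← hcoeff, ← h, mul_coeff_zero, coeff_map, hq0, map_zero, zero_mul]
  · rw [← hcoeff]
    rw [eq_zero_of_ev hJ hψ hF (N := P.natDegree + 1) (fun p _ hp0 => ?_) (Nat.lt_succ_self _) hP0, coeff_zero]
    by_contra hne
    exact hint (isAlgebraic_iff_isIntegral.1 ⟨p, hne, hp0⟩)

/-- A crossed homomorphism on a diagonalisable group is a coboundary. -/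
theorem exists_eq_smul (w : M) (β : B)
    (h : Coalgebra.comul (R := k) β = β ⊗ₜ[k] 1 + d.b w ⊗ₜ[k] β) : ∃ s : k, β = s • (d.b w - 1) := by
  classical
  let c := d.b.repr β
  let E := d.b.tensorProduct d.b
  have hl : ∀ ν ρ, E.repr (Coalgebra.comul (R := k) β) (ν, ρ) = if ν = ρ then c ν else 0 := by
    intro ν ρ
    conv_lhs => rw [← d.b.linearCombination_repr β]
    rw [Finsupp.linearCombination_apply, Finsupp.sum, map_sum, map_sum, Finsupp.finsetSum_apply]
    simp only [map_smul, d.b_comul, Finsupp.smul_apply, E, Module.Basis.tensorProduct_repr_tmul_apply,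
      Module.Basis.repr_self, Finsupp.single_apply, smul_eq_mul]
    split_ifs with hνρ
    · subst hνρ
      simp [c, Finset.sum_ite_eq']
      exact fun h => h.symm
    · refine Finset.sum_eq_zero fun x _ => ?_
      by_cases hx : x = ν
      · subst hx; simp [hνρ]
      · simp [hx]
  have hr : ∀ ν ρ, E.repr (β ⊗ₜ[k] 1 + d.b w ⊗ₜ[k] β) (ν, ρ) =
      (if ρ = 1 then c ν else 0) + (if ν = w then c ρ else 0) := by
    intro ν ρ
    rw [map_add, Finsupp.add_apply, ← d.b_one]
    simp only [E, Module.Basis.tensorProduct_repr_tmul_apply, Module.Basis.repr_self, Finsupp.single_apply,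
      smul_eq_mul, c, ite_mul, one_mul, zero_mul, mul_ite, mul_one, mul_zero]
    congr 1
    · simp [eq_comm]
    · simp [eq_comm]
  have hc : ∀ ν ρ, (if ν = ρ then c ν else 0) = (if ρ = 1 then c ν else 0) + if ν = w then c ρ else 0 :=
    fun ν ρ => by rw [← hl, ← hr, h]
  refine ⟨c w, d.b.repr.injective (Finsupp.ext fun ν => ?_)⟩
  rw [map_smul, map_sub, ← d.b_one, Module.Basis.repr_self, Module.Basis.repr_self, Finsupp.smul_apply,
    Finsupp.sub_apply, smul_eq_mul, Finsupp.single_apply, Finsupp.single_apply]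
  show c ν = c w * _
  by_cases hw : w = 1
  · have hν := hc ν ν
    subst hw
    by_cases h1 : ν = 1
    · subst h1; simp at hν ⊢; exact hν
    · simp [h1] at hν
      simp [Ne.symm h1, hν]
  · by_cases h1 : ν = w
    · subst h1; simp [Ne.symm hw]
    · by_cases h2 : ν = 1
      · subst h2
        have h3 := hc w 1
        simp [hw, Ne.symm hw] at h3 ⊢
        linear_combination -h3
      · have h3 := hc ν ν
        simp [h1, h2] at h3
        simp [Ne.symm h1, Ne.symm h2, h3]

variable (d ψ) in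
/-- The identities satisfied by the minimal polynomial of an eigen additive function. -/
def IsAdditiveWeight (m : M) (q : k[X]) : Prop :=
  (∀ j, 0 < j → hasseDeriv j q = C (q.coeff j)) ∧
  (∀ (R : Type u) [CommRing R] [Algebra k R] (x y : R), aeval (x + y) q = aeval x q + aeval y q) ∧
  (∀ i < q.natDegree, q.coeff i ≠ 0 → m ^ i = m ^ q.natDegree) ∧
  ∀ (R : Type u) [CommRing R] [Algebra k R] (g : WithConv (A →ₐ[k] R)) (x : R),
    aeval (ch d ψ g m * x) q = ch d ψ g m ^ q.natDegree * aeval x q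

variable [J.IsHopfIdeal k]

include hJ in
/-- In the algebraic case one can arrange that the minimal polynomial kills `F` in `A`. -/
theorem exists_shift [IsAlgClosed k] (hψ : Function.Injective ψ) (hF : Crossed d ψ m F)
    (hker : ∀ (R : Type u) [CommRing R] [Algebra k R] (g n : WithConv (A →ₐ[k] R)), IsKer ψ n →
      ∃ x : WithConv (A →ₐ[k] R), IsKer ψ x ∧ x.ofConv F = ch d ψ g m * n.ofConv F)
    (hint : IsIntegral k (Ideal.Quotient.mkₐ k J F)) :
    ∃ F', Crossed d ψ m F' ∧ Ideal.Quotient.mkₐ k J F' = Ideal.Quotient.mkₐ k J F ∧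
      ((minpoly k (Ideal.Quotient.mkₐ k J F)).coeff 0 = 0 ∧ aeval F' (minpoly k (Ideal.Quotient.mkₐ k J F)) = 0) ∧
      IsAdditiveWeight d ψ m (minpoly k (Ideal.Quotient.mkₐ k J F)) := by
  classical
  haveI : Nontrivial (A ⧸ J) := (Bialgebra.counitAlgHom k (A ⧸ J)).toRingHom.domain_nontrivial
  let π := Ideal.Quotient.mkₐ k J
  let f := π F
  let q := minpoly k f
  have hqf : aeval f q = 0 := minpoly.aeval k f
  have hind : ∀ p : k[X], p.natDegree < q.natDegree → aeval f p = 0 → p = 0 := by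
    intro p hp hp0
    by_contra hne
    exact absurd (natDegree_le_natDegree (minpoly.degree_le_of_ne_zero k f hne hp0)) (not_le.2 hp)
  have hkv : ∀ (R : Type u) [CommRing R] [Algebra k R] (n : WithConv (A →ₐ[k] R)), IsKer ψ n →
      aeval (n.ofConv F) q = 0 := by
    intro R _ _ n hn
    let i := Ideal.Quotient.liftₐ J n.ofConv (hn.kills hJ)
    rw [show n.ofConv F = i f from rfl, aeval_algHom_apply, hqf, map_zero]
  have hq0 : q.coeff 0 = 0 := by
    rw [coeff_zero_eq_aeval_zero]
    have := hkv k 1 IsKer.one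
    rwa [hF.one] at this
  have hder : ∀ j, 0 < j → hasseDeriv j q = C (q.coeff j) := by
    refine hasseDeriv_eq_C (minpoly.monic hint) f hind hqf ?_
    let u₁ : WithConv (A →ₐ[k] (A ⧸ J) ⊗[k] (A ⧸ J)) := toConv (Algebra.TensorProduct.includeLeft.comp π)
    let u₂ : WithConv (A →ₐ[k] (A ⧸ J) ⊗[k] (A ⧸ J)) := toConv (Algebra.TensorProduct.includeRight.comp π)
    have h₁ : IsKer ψ u₁ := (isKer_mk J hJ).post _
    have h₂ : IsKer ψ u₂ := (isKer_mk J hJ).post _
    have h := hkv _ _ (h₁.mul h₂)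
    rw [hF _ u₁ u₂, ch_isKer h₁, one_mul] at h
    exact h
  have hadd : ∀ (R : Type u) [CommRing R] [Algebra k R] (x y : R), aeval (x + y) q = aeval x q + aeval y q :=
    fun R _ _ x y => eval_add_of_hasseDeriv hq0 hder x y
  have hw : ∀ i < q.natDegree, q.coeff i • (ψ (d.b m) ^ i - ψ (d.b m) ^ q.natDegree) = 0 := by
    let g : WithConv (A →ₐ[k] A ⊗[k] (A ⧸ J)) := toConv Algebra.TensorProduct.includeLeft
    let n : WithConv (A →ₐ[k] A ⊗[k] (A ⧸ J)) := toConv (Algebra.TensorProduct.includeRight.comp π)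
    have hn : IsKer ψ n := (isKer_mk J hJ).post _
    obtain ⟨x, hx, hxF⟩ := hker _ g n hn
    have e1 := hkv _ x hx
    rw [hxF] at e1
    have e2 := hkv _ n hn
    rw [aeval_eq_sum_range, Finset.sum_range_succ] at e1 e2
    refine coeff_eq_zero_of_sum f q.natDegree hind
      (fun i => q.coeff i • (ψ (d.b m) ^ i - ψ (d.b m) ^ q.natDegree)) ?_
    have h3 : ∀ i, (q.coeff i • (ψ (d.b m) ^ i - ψ (d.b m) ^ q.natDegree)) ⊗ₜ[k] (f ^ i) =
        q.coeff i • (ch d ψ g m * n.ofConv F) ^ i -
          ch d ψ g m ^ q.natDegree * (q.coeff i • n.ofConv F ^ i) := by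
      intro i
      simp [g, n, ch, f, π, sub_tmul, smul_tmul', smul_sub]
    rw [Finset.sum_congr rfl fun i _ => h3 i, Finset.sum_sub_distrib, ← Finset.mul_sum]
    rw [show q.coeff q.natDegree = 1 from (minpoly.monic hint).coeff_natDegree, one_smul] at e1 e2
    linear_combination e1 - ch d ψ g m ^ q.natDegree * e2
  have hscale : ∀ (R : Type u) [CommRing R] [Algebra k R] (g : WithConv (A →ₐ[k] R)) (x : R),
      aeval (ch d ψ g m * x) q = ch d ψ g m ^ q.natDegree * aeval x q := by
    intro R _ _ g x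
    rw [aeval_eq_sum_range, aeval_eq_sum_range, Finset.mul_sum]
    refine Finset.sum_congr rfl fun i hi => ?_
    rcases (Nat.lt_succ_iff.1 (Finset.mem_range.1 hi)).lt_or_eq with hi | rfl
    · have h := congrArg g.ofConv (hw i hi)
      rw [map_smul, map_sub, map_pow, map_pow, map_zero, smul_sub, sub_eq_zero] at h
      change q.coeff i • ch d ψ g m ^ i = q.coeff i • ch d ψ g m ^ q.natDegree at h
      rw [mul_pow, ← smul_mul_assoc, h, smul_mul_assoc, mul_smul_comm]
    · rw [mul_pow, mul_smul_comm]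
  let b := aeval F q
  have hbg : ∀ (R : Type u) [CommRing R] [Algebra k R] (g : WithConv (A →ₐ[k] R)),
      g.ofConv b = aeval (g.ofConv F) q := fun R _ _ g => (aeval_algHom_apply g.ofConv F q).symm
  obtain ⟨β, hβ⟩ : b ∈ (ψ : B →ₐ[k] A).range := by
    refine Groth.L25.UnipExt.mem_range_of_fixed ψ hJ ?_
    let g : WithConv (A →ₐ[k] A ⊗[k] (A ⧸ J)) :=
      toConv ((Algebra.TensorProduct.includeLeft : A →ₐ[k] A ⊗[k] (A ⧸ J)).comp (AlgHom.id k A))
    let n : WithConv (A →ₐ[k] A ⊗[k] (A ⧸ J)) := toConv (Algebra.TensorProduct.includeRight.comp π)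
    have hn : IsKer ψ n := (isKer_mk J hJ).post _
    obtain ⟨x, hx, hxF⟩ := hker _ g n hn
    have h : (g * n).ofConv b = g.ofConv b := by
      rw [hbg, hbg, hF, hadd, ← hxF, hkv _ x hx, add_zero]
    rw [eval_incl, AlgHom.toLinearMap_id] at h
    exact h
  have hβ' : ψ β = b := hβ
  obtain ⟨s, hs⟩ := exists_eq_smul (d := d) (m ^ q.natDegree) β (by
    apply TensorProduct.map_injective_of_flat_flat (ψ : B →ₗ[k] A) (ψ : B →ₗ[k] A) hψ hψ
    rw [show TensorProduct.map (ψ : B →ₗ[k] A) (ψ : B →ₗ[k] A) (Coalgebra.comul (R := k) β) =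
      Coalgebra.comul (R := k) (ψ β) from CoalgHomClass.map_comp_comul_apply ψ β, hβ', ← id_incl_mul, hbg, hF,
      hadd, hscale, ← hbg, ← hbg, ← ch_pow, map_add]
    simp [ch, hβ'])
  obtain ⟨c, hc⟩ : ∃ c : k, aeval c q = s := by
    obtain ⟨c, hc⟩ := IsAlgClosed.exists_root (q - C s) (by
      rw [degree_sub_C (natDegree_pos_iff_degree_pos.1 (minpoly.natDegree_pos hint))]
      exact (natDegree_pos_iff_degree_pos.1 (minpoly.natDegree_pos hint)).ne')
    refine ⟨c, ?_⟩
    rw [IsRoot, eval_sub, eval_C, sub_eq_zero] at hc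
    rw [coe_aeval_eq_eval]
    exact hc
  let χ := ψ (d.b m)
  have hwt : ∀ i < q.natDegree, q.coeff i ≠ 0 → m ^ i = m ^ q.natDegree := fun i hi hne => by
    have h := hw i hi
    rw [smul_eq_zero_iff_right hne, sub_eq_zero, show ψ (d.b m) = ch d ψ (toConv (AlgHom.id k A)) m from rfl,
      ← ch_pow, ← ch_pow] at h
    exact d.b.injective (hψ h)
  refine ⟨F - c • (χ - 1), fun R _ _ g h => ?_, ?_, ⟨hq0, ?_⟩, hder, hadd, hwt, hscale⟩
  · simp only [map_sub, map_smul, map_one, hF R g h]
    show _ - c • (ch d ψ (g * h) m - 1) = _ - c • (ch d ψ g m - 1) + _ * (_ - c • (ch d ψ h m - 1))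
    rw [ch_mul_pt, Algebra.smul_def, Algebra.smul_def, Algebra.smul_def]
    ring
  · rw [map_sub, map_smul, map_sub, map_one]
    have : π χ = 1 := ch_isKer (d := d) (n := toConv π) (isKer_mk J hJ) m
    rw [this, sub_self, smul_zero, sub_zero]
  · have e0 : aeval (0 : A) q = 0 := by rw [← coeff_zero_eq_aeval_zero', hq0, map_zero]
    have eneg : ∀ x : A, aeval (-x) q = - aeval x q := fun x => by
      have := hadd A x (-x)
      rw [add_neg_cancel, e0] at this
      exact eq_neg_of_add_eq_zero_right this.symm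
    have esub : ∀ x y : A, aeval (x - y) q = aeval x q - aeval y q := fun x y => by
      rw [sub_eq_add_neg, hadd, eneg, sub_eq_add_neg]
    have ec : aeval (algebraMap k A c) q = algebraMap k A s := by rw [aeval_algebraMap_apply, hc]
    have ecχ : aeval (χ * algebraMap k A c) q = χ ^ q.natDegree * algebraMap k A s := by
      rw [show χ = ch d ψ (toConv (AlgHom.id k A)) m from rfl, hscale, ec]
    rw [esub, smul_sub, esub, show c • (1 : A) = algebraMap k A c from (Algebra.algebraMap_eq_smul_one c).symm, ec,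
      Algebra.smul_def, mul_comm, ecχ]
    show b - (χ ^ q.natDegree * algebraMap k A s - algebraMap k A s) = 0
    rw [← hβ', hs, map_smul, map_sub, map_one, Algebra.smul_def]
    show algebraMap k A s * (ch d ψ (toConv (AlgHom.id k A)) (m ^ q.natDegree) - 1) - _ = 0
    rw [ch_pow]
    show algebraMap k A s * (χ ^ q.natDegree - 1) - _ = 0
    ring

include hJ in
theorem surjective_of_minimal [IsAlgClosed k] (d : GLBasis k B M) (hψ : Function.Injective ψ)
    (hU : HopfRep.IsUnipotent k (A ⧸ J))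
    (hmin : ∀ I : Ideal A, I.IsHopfIdeal k → Ideal.comap (ψ : B →+* A) I = ⊥ → I = ⊥) :
    Function.Surjective ψ := by
  intro a₁
  by_contra hnot
  by_cases hne : ∃ a : A, Ideal.Quotient.mkₐ k J a ≠ algebraMap k (A ⧸ J) (Coalgebra.counit (R := k) a)
  · obtain ⟨a, ha, ha0⟩ := exists_prim ψ hJ hU hne
    obtain ⟨a', μ, hp, hp0, heig⟩ := exists_eigen d ψ hψ hJ ha ha0
    obtain ⟨F, hF, hFn⟩ := exists_crossed d ψ hψ hJ hp heig
    have hF : Crossed d ψ μ⁻¹ F := hF
    obtain ⟨F', hF', hπ, hq⟩ : ∃ F', Crossed d ψ μ⁻¹ F' ∧ Ideal.Quotient.mkₐ k J F' ≠ 0 ∧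
        (IsIntegral k (Ideal.Quotient.mkₐ k J F') → (minpoly k (Ideal.Quotient.mkₐ k J F')).coeff 0 = 0 ∧
          aeval F' (minpoly k (Ideal.Quotient.mkₐ k J F')) = 0) := by
      have hne0 : Ideal.Quotient.mkₐ k J F ≠ 0 := fun h => hp0 ((hFn _ _ (isKer_mk J hJ)).symm.trans h)
      by_cases hint : IsIntegral k (Ideal.Quotient.mkₐ k J F)
      · obtain ⟨F', h1, h2, ⟨h3, h4⟩, -⟩ := exists_shift hJ hψ hF (fun R _ _ g n hn => by
          refine ⟨pinv (pinv g) * n * pinv g, hn.conj _, ?_⟩
          rw [hFn R _ (hn.conj _), heig R _ n hn, ch_pinv, hFn R n hn]) hint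
        exact ⟨F', h1, h2 ▸ hne0, fun _ => ⟨h2 ▸ h3, h2 ▸ h4⟩⟩
      · exact ⟨F, hF, hne0, fun h => absurd h hint⟩
    let P : ∀ (R : Type u) [CommRing R] [Algebra k R], (A →ₐ[k] R) → Prop := fun R _ _ g => g F' = 0
    have hrep : Dyn.Represents k A (Ideal.span {F'}) P := by
      intro R _ _ g
      refine ⟨fun h => h F' (Ideal.mem_span_singleton_self F'), fun h a ha => ?_⟩
      obtain ⟨y, rfl⟩ := Ideal.mem_span_singleton'.1 ha
      rw [map_mul, show g F' = 0 from h, mul_zero]
    have hI := isHopfIdeal_of_represents hrep (fun R _ _ => hF'.one R)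
      (fun R _ _ g h hg hh => by
        show (g * h).ofConv F' = 0
        rw [hF', show g.ofConv F' = 0 from hg, show h.ofConv F' = 0 from hh, mul_zero, add_zero])
      (fun R _ _ g hg => by
        show (pinv g).ofConv F' = 0
        have h := hF' R (pinv g) g
        rw [pinv_mul, hF'.one, show g.ofConv F' = 0 from hg, mul_zero, add_zero] at h
        exact h.symm)
    have := Ideal.span_singleton_eq_bot.1 (hmin _ hI (comap_span_eq_bot hJ hψ hF' hq))
    exact hπ (by rw [this, map_zero])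
  · push Not at hne
    refine hnot (Groth.L25.UnipExt.mem_range_of_fixed ψ hJ (a := a₁) ?_)
    have h : (Ideal.Quotient.mkₐ k J).toLinearMap =
        Algebra.linearMap k (A ⧸ J) ∘ₗ Coalgebra.counit (R := k) (A := A) := LinearMap.ext hne
    rw [h]
    have h2 : ∀ w : A ⊗[k] A, TensorProduct.map LinearMap.id (Algebra.linearMap k (A ⧸ J) ∘ₗ
        Coalgebra.counit (R := k) (A := A)) w =
        (Algebra.linearMap k (A ⧸ J)).lTensor A ((Coalgebra.counit (R := k) (A := A)).lTensor A w) := by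
      intro w
      induction w with
      | zero => simp
      | add p q hp hq => simp only [map_add, hp, hq]
      | tmul p q => simp
    rw [h2, Coalgebra.lTensor_counit_comul, LinearMap.lTensor_tmul, Algebra.linearMap_apply, map_one]

end Groth.L01.UnipSplit
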