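import Groth.Agent.L01.UnipSplit.Basic
import Mathlib.Algebra.MonoidAlgebra.Module
import Mathlib.RingTheory.HopfAlgebra.Quotient
import Mathlib.FieldTheory.IsAlgClosed.Basic

/-!
# A subgroup surjecting onto a diagonalisable quotient with trivial unipotent part
-/

set_option autoImplicit false

universe u

open TensorProduct WithConv Groth.L08

noncomputable section

namespace Groth.L01.UnipSplit

variable {k : Type u} [Field k] {A B : Type u} [CommRing A] [HopfAlgebra k A] [CommRing B] [HopfAlgebra k B]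

/-- A basis of group-like elements indexed by a group. -/
structure GLBasis (k B : Type u) [Field k] [CommRing B] [HopfAlgebra k B] (M : Type u) [CommGroup M] where
  b : Module.Basis M k B
  b_one : b 1 = 1
  b_mul : ∀ μ ν, b (μ * ν) = b μ * b ν
  b_comul : ∀ μ, Coalgebra.comul (R := k) (b μ) = b μ ⊗ₜ[k] b μ
  b_counit : ∀ μ, Coalgebra.counit (R := k) (b μ) = 1

variable {M : Type u} [CommGroup M] (d : GLBasis k B M) (ψ : B →ₐc[k] A)

/-- A character evaluated at a point. -/
def ch {R : Type u} [CommRing R] [Algebra k R] (g : WithConv (A →ₐ[k] R)) (μ : M) : R :=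
  g.ofConv (ψ (d.b μ))

section ch

variable {d ψ} {R : Type u} [CommRing R] [Algebra k R]

theorem ch_mul_pt (g h : WithConv (A →ₐ[k] R)) (μ : M) : ch d ψ (g * h) μ = ch d ψ g μ * ch d ψ h μ := by
  show (toConv ((g * h).ofConv.comp (ψ : B →ₐ[k] A))).ofConv (d.b μ) = _
  rw [pre_mul, AlgHom.convMul_apply, d.b_comul]
  simp [ch]

theorem ch_isKer {n : WithConv (A →ₐ[k] R)} (hn : IsKer ψ n) (μ : M) : ch d ψ n μ = 1 := by
  rw [ch, hn.apply, d.b_counit, map_one]

theorem ch_mul (g : WithConv (A →ₐ[k] R)) (μ ν : M) : ch d ψ g (μ * ν) = ch d ψ g μ * ch d ψ g ν := by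
  rw [ch, d.b_mul, map_mul, map_mul]
  rfl

theorem ch_one (g : WithConv (A →ₐ[k] R)) : ch d ψ g 1 = 1 := by
  rw [ch, d.b_one, map_one, map_one]

theorem ch_inv_mul (g : WithConv (A →ₐ[k] R)) (μ : M) : ch d ψ g μ⁻¹ * ch d ψ g μ = 1 := by
  rw [← ch_mul, inv_mul_cancel, ch_one]

theorem ch_pow (g : WithConv (A →ₐ[k] R)) (μ : M) (i : ℕ) : ch d ψ g (μ ^ i) = ch d ψ g μ ^ i := by
  induction i with
  | zero => rw [pow_zero, pow_zero, ch_one]
  | succ i ih => rw [pow_succ, pow_succ, ch_mul, ih]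

theorem ch_pinv (g : WithConv (A →ₐ[k] R)) (μ : M) : ch d ψ (pinv g) μ = ch d ψ g μ⁻¹ := by
  have h1 : ch d ψ (pinv g) μ * ch d ψ g μ = 1 := by
    rw [← ch_mul_pt, pinv_mul, ch_isKer IsKer.one]
  exact left_inv_eq_right_inv h1 (by rw [mul_comm]; exact ch_inv_mul g μ)

theorem ch_post {S : Type u} [CommRing S] [Algebra k S] (f : R →ₐ[k] S) (g : WithConv (A →ₐ[k] R)) (μ : M) :
    f (ch d ψ g μ) = ch d ψ (toConv (f.comp g.ofConv)) μ := rfl

end ch

variable (hψ : Function.Injective ψ)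

include hψ in
/-- Linear independence of characters with coefficients. -/
theorem coeff_unique {R : Type u} [CommRing R] [Algebra k R] (s : Finset M) (c : M → R)
    (h : ∀ (R' : Type u) [CommRing R'] [Algebra k R'] (i : R →ₐ[k] R') (l : WithConv (A →ₐ[k] R')),
      ∑ μ ∈ s, i (c μ) * ch d ψ l μ = 0) : ∀ μ ∈ s, c μ = 0 := by
  classical
  intro μ hμ
  have h1 := h (R ⊗[k] A) Algebra.TensorProduct.includeLeft (toConv Algebra.TensorProduct.includeRight)
  have h2 : ∑ ν ∈ s, c ν ⊗ₜ[k] d.b ν = 0 := by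
    apply Module.Flat.lTensor_preserves_injective_linearMap (M := R) (ψ : B →ₗ[k] A) hψ
    rw [map_sum, map_zero, ← h1]
    exact Finset.sum_congr rfl fun ν _ => by
      rw [LinearMap.lTensor_tmul, ch]
      simp
  have h3 := congrArg (fun z => (TensorProduct.equivFinsuppOfBasisRight d.b z) μ) h2
  simp only [map_sum, map_zero, Finsupp.finsetSum_apply, Finsupp.zero_apply,
    TensorProduct.equivFinsuppOfBasisRight_apply, LinearMap.lTensor_tmul, TensorProduct.rid_tmul,
    Module.Basis.coord_apply, Module.Basis.repr_self, Finsupp.single_apply, ite_smul, one_smul, zero_smul] at h3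
  rwa [Finset.sum_ite_eq', if_pos hμ] at h3

variable {J : Ideal A} (hJ : J = Ideal.map (ψ : B →+* A) (RingHom.ker (Bialgebra.counitAlgHom k B)))

include hJ in
/-- Functions invariant under the kernel are combinations of characters. -/
theorem exists_expansion {R : Type u} [CommRing R] [Algebra k R] (z : R ⊗[k] A)
    (hz : ∀ (R' : Type u) [CommRing R'] [Algebra k R'] (i : R →ₐ[k] R') (l n : WithConv (A →ₐ[k] R')),
      IsKer ψ n → Algebra.TensorProduct.lift i (l * n).ofConv (fun _ _ => Commute.all _ _) z =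
        Algebra.TensorProduct.lift i l.ofConv (fun _ _ => Commute.all _ _) z) :
    ∃ (s : Finset M) (c : M → R), ∀ (R' : Type u) [CommRing R'] [Algebra k R'] (i : R →ₐ[k] R')
      (l : WithConv (A →ₐ[k] R')),
      Algebra.TensorProduct.lift i l.ofConv (fun _ _ => Commute.all _ _) z = ∑ μ ∈ s, i (c μ) * ch d ψ l μ := by
  classical
  let π := Ideal.Quotient.mkₐ k J
  let ι₀ : R →ₐ[k] (R ⊗[k] (A ⊗[k] (A ⧸ J))) := Algebra.TensorProduct.includeLeft
  let ι₁ : A ⊗[k] (A ⧸ J) →ₐ[k] (R ⊗[k] (A ⊗[k] (A ⧸ J))) := Algebra.TensorProduct.includeRight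
  let l₀ : WithConv (A →ₐ[k] A ⊗[k] (A ⧸ J)) :=
    toConv ((Algebra.TensorProduct.includeLeft : A →ₐ[k] A ⊗[k] (A ⧸ J)).comp (AlgHom.id k A))
  let n₀ : WithConv (A →ₐ[k] A ⊗[k] (A ⧸ J)) :=
    toConv ((Algebra.TensorProduct.includeRight : A ⧸ J →ₐ[k] A ⊗[k] (A ⧸ J)).comp π)
  have hn₀ : IsKer ψ n₀ := (isKer_mk J hJ).post _
  have hz' : ∀ (R' S' : Type u) [CommRing R'] [Algebra k R'] [CommRing S'] [Algebra k S'] (i : R →ₐ[k] R')
      (f : S' →ₐ[k] R') (l n : WithConv (A →ₐ[k] S')), IsKer ψ n →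
      Algebra.TensorProduct.lift i (toConv (f.comp (l * n).ofConv)).ofConv (fun _ _ => Commute.all _ _) z =
        Algebra.TensorProduct.lift i (toConv (f.comp l.ofConv)).ofConv (fun _ _ => Commute.all _ _) z := by
    intro R' S' _ _ _ _ i f l n hn
    rw [post_mul]
    exact hz R' i _ _ (hn.post f)
  have h := hz' (R ⊗[k] (A ⊗[k] (A ⧸ J))) (A ⊗[k] (A ⧸ J)) ι₀ ι₁ l₀ n₀ hn₀
  let ρ : A →ₗ[k] A ⊗[k] (A ⧸ J) := TensorProduct.map LinearMap.id π.toLinearMap ∘ₗ Coalgebra.comul
  let e : A →ₗ[k] A ⊗[k] (A ⧸ J) := (TensorProduct.mk k A (A ⧸ J)).flip 1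
  have hρ : ∀ w : R ⊗[k] A, Algebra.TensorProduct.lift ι₀ (toConv (ι₁.comp (l₀ * n₀).ofConv)).ofConv
      (fun x _ => Commute.all (ι₀ x) _) w = ρ.lTensor R w := by
    intro w
    induction w with
    | zero => simp
    | add p q hp hq => simp only [map_add, hp, hq]
    | tmul p q =>
      rw [Algebra.TensorProduct.lift_tmul, LinearMap.lTensor_tmul]
      show ι₀ p * ι₁ ((l₀ * n₀).ofConv q) = _
      rw [eval_incl, AlgHom.toLinearMap_id]
      simp [ι₀, ι₁, ρ, π]
  have he : ∀ w : R ⊗[k] A, Algebra.TensorProduct.lift ι₀ (toConv (ι₁.comp l₀.ofConv)).ofConv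
      (fun x _ => Commute.all (ι₀ x) _) w = e.lTensor R w := by
    intro w
    induction w with
    | zero => simp
    | add p q hp hq => simp only [map_add, hp, hq]
    | tmul p q => simp [ι₀, ι₁, e, l₀]
  rw [hρ, he] at h
  let b := Module.Basis.ofVectorSpace k R
  have hcoord : ∀ i, ∃ c, ψ c = TensorProduct.lid k A ((b.coord i).rTensor A z) := by
    intro i
    refine Groth.L25.UnipExt.mem_range_of_fixed ψ hJ ?_
    have h1 := congrArg (fun w => TensorProduct.lid k (A ⊗[k] (A ⧸ J)) ((b.coord i).rTensor (A ⊗[k] (A ⧸ J)) w)) h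
    have key : ∀ (φ : A →ₗ[k] A ⊗[k] (A ⧸ J)) (w : R ⊗[k] A),
        TensorProduct.lid k (A ⊗[k] (A ⧸ J)) ((b.coord i).rTensor (A ⊗[k] (A ⧸ J)) (φ.lTensor R w)) =
          φ (TensorProduct.lid k A ((b.coord i).rTensor A w)) := by
      intro φ w
      induction w with
      | zero => simp
      | add p q hp hq => simp only [map_add, hp, hq]
      | tmul p q => simp
    simp only [key] at h1
    exact h1
  choose c hc using hcoord
  let Z := TensorProduct.equivFinsuppOfBasisLeft b z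
  let zB : R ⊗[k] B := ∑ i ∈ Z.support, b i ⊗ₜ[k] c i
  have hzB : LinearMap.lTensor R (ψ : B →ₗ[k] A) zB = z := by
    refine (TensorProduct.equivFinsuppOfBasisLeft b).injective (Finsupp.ext fun j => ?_)
    rw [TensorProduct.equivFinsuppOfBasisLeft_apply, TensorProduct.equivFinsuppOfBasisLeft_apply]
    simp only [zB, map_sum, LinearMap.lTensor_tmul, LinearMap.rTensor_tmul, TensorProduct.lid_tmul,
      Module.Basis.coord_apply, Module.Basis.repr_self, Finsupp.single_apply, ite_smul, one_smul, zero_smul]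
    rw [Finset.sum_ite_eq']
    split_ifs with hj
    · exact hc j
    · have hj' := Finsupp.notMem_support_iff.1 hj
      rw [show Z j = TensorProduct.lid k A ((b.coord j).rTensor A z) from
        TensorProduct.equivFinsuppOfBasisLeft_apply b z j] at hj'
      exact hj'.symm
  let Y := TensorProduct.equivFinsuppOfBasisRight d.b zB
  refine ⟨Y.support, fun μ => Y μ, fun R' _ _ i l => ?_⟩
  have hz' : zB = ∑ μ ∈ Y.support, Y μ ⊗ₜ[k] d.b μ := by
    refine (TensorProduct.equivFinsuppOfBasisRight d.b).injective (Finsupp.ext fun μ => ?_)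
    simp only [map_sum, Finsupp.finsetSum_apply, TensorProduct.equivFinsuppOfBasisRight_apply,
      LinearMap.lTensor_tmul, TensorProduct.rid_tmul, Module.Basis.coord_apply, Module.Basis.repr_self,
      Finsupp.single_apply, ite_smul, one_smul, zero_smul]
    rw [Finset.sum_ite_eq']
    split_ifs with hj
    · exact (TensorProduct.equivFinsuppOfBasisRight_apply d.b zB μ).symm
    · exact ((TensorProduct.equivFinsuppOfBasisRight_apply d.b zB μ).symm).trans (Finsupp.notMem_support_iff.1 hj)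
  conv_lhs => rw [← hzB, hz', map_sum, map_sum]
  exact Finset.sum_congr rfl fun μ _ => by
    rw [LinearMap.lTensor_tmul, Algebra.TensorProduct.lift_tmul]
    rfl

/-- additive functions on the kernel -/
def Prim (a : A) : Prop :=
  ∀ (R : Type u) [CommRing R] [Algebra k R] (n₁ n₂ : WithConv (A →ₐ[k] R)), IsKer ψ n₁ → IsKer ψ n₂ →
    (n₁ * n₂).ofConv a = n₁.ofConv a + n₂.ofConv a

variable {ψ} in
theorem Prim.one {a : A} (h : Prim ψ a) (R : Type u) [CommRing R] [Algebra k R] :
    (1 : WithConv (A →ₐ[k] R)).ofConv a = 0 := by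
  have := h R 1 1 IsKer.one IsKer.one
  rw [one_mul] at this
  exact left_eq_add.1 this

variable {ψ} in
theorem Prim.pinv {a : A} (h : Prim ψ a) {R : Type u} [CommRing R] [Algebra k R]
    {n : WithConv (A →ₐ[k] R)} (hn : IsKer ψ n) :
    (Groth.L08.pinv n).ofConv a = - n.ofConv a := by
  have := h R (Groth.L08.pinv n) n hn.pinv hn
  rw [pinv_mul, h.one] at this
  exact eq_neg_of_add_eq_zero_left this.symm

variable [J.IsHopfIdeal k]

include hJ in
theorem exists_prim (hU : HopfRep.IsUnipotent k (A ⧸ J))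
    (hne : ∃ a : A, Ideal.Quotient.mkₐ k J a ≠ algebraMap k (A ⧸ J) (Coalgebra.counit (R := k) a)) :
    ∃ a : A, Prim ψ a ∧ Ideal.Quotient.mkₐ k J a ≠ 0 := by
  classical
  obtain ⟨a₀, ha₀⟩ := hne
  obtain ⟨m, F, h0, hm, hst⟩ := hasFlag_of_isUnipotent hU (Ideal.Quotient.mkₐ k J a₀)
  let K : Submodule k (A ⧸ J) := Submodule.span k {1}
  have hnot : ∃ i, ¬ F i ≤ K := by
    refine ⟨m, fun h => ha₀ ?_⟩
    obtain ⟨c, hc⟩ := Submodule.mem_span_singleton.1 (h hm)
    have h1 := congrArg (Coalgebra.counit (R := k)) hc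
    rw [map_smul, Bialgebra.counit_one, smul_eq_mul, mul_one] at h1
    have h2 : Coalgebra.counit (R := k) (Ideal.Quotient.mkₐ k J a₀) = Coalgebra.counit (R := k) a₀ :=
      CoalgHomClass.counit_comp_apply (Bialgebra.Quotient.mkBialgHom (R := k) J) a₀
    rw [← hc, ← h2, ← h1, Algebra.algebraMap_eq_smul_one]
  obtain ⟨v, hv, hvK⟩ := SetLike.not_le_iff_exists.1 (Nat.find_spec hnot)
  obtain ⟨j, hj⟩ : ∃ j, Nat.find hnot = j + 1 := by
    refine Nat.exists_eq_succ_of_ne_zero fun h => hvK ?_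
    rw [h, h0, Submodule.mem_bot] at hv
    rw [hv]; exact zero_mem _
  have hjK : F j ≤ K := not_not.1 (Nat.find_min hnot (m := j) (by omega))
  obtain ⟨g, rfl, hstep⟩ := hst j
  rw [hj] at hv
  let f : A ⧸ J := v - algebraMap k (A ⧸ J) (Coalgebra.counit (R := k) v)
  have hf : ∀ φ : (A ⧸ J) →ₗ[k] k, fAct (A ⧸ J) φ f = φ 1 • f + φ f • 1 := by
    intro φ
    obtain ⟨c, hc⟩ := Submodule.mem_span_singleton.1 (hjK (hstep v hv φ))
    have h1 : fAct (A ⧸ J) φ v = φ 1 • v + c • 1 := by rw [hc]; abel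
    have h2 := congrArg (Coalgebra.counit (R := k)) h1
    have h3 : Coalgebra.counit (R := k) (fAct (A ⧸ J) φ v) = φ v := by
      have h := apply_cf (A := A ⧸ J) φ (Coalgebra.counit (R := k)) v
      rw [← h, cf_counit_apply]
    rw [h3, map_add, map_smul, map_smul, Bialgebra.counit_one, smul_eq_mul, smul_eq_mul, mul_one] at h2
    have h4 : fAct (A ⧸ J) φ (1 : A ⧸ J) = φ 1 • 1 := by
      change TensorProduct.rid k (A ⧸ J) (φ.lTensor (A ⧸ J) (Coalgebra.comul (R := k) (1 : A ⧸ J))) = _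
      rw [Bialgebra.comul_one, Algebra.TensorProduct.one_def]
      simp
    simp only [f, map_sub, Algebra.algebraMap_eq_smul_one, map_smul, h4, h1, h2, smul_eq_mul, smul_sub,
      add_smul, sub_smul, smul_smul]
    module
  obtain ⟨a, ha⟩ := Ideal.Quotient.mkₐ_surjective k J f
  have hf0 : f ≠ 0 := fun h => hvK (by
    rw [sub_eq_zero] at h
    rw [h, Algebra.algebraMap_eq_smul_one]
    exact Submodule.smul_mem _ _ (Submodule.mem_span_singleton_self _))
  have hcomul : Coalgebra.comul (R := k) f = f ⊗ₜ[k] 1 + 1 ⊗ₜ[k] f := by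
    let b := Module.Basis.ofVectorSpace k (A ⧸ J)
    refine (TensorProduct.equivFinsuppOfBasisRight b).injective (Finsupp.ext fun i => ?_)
    rw [map_add, Finsupp.add_apply]
    simp only [TensorProduct.equivFinsuppOfBasisRight_apply, LinearMap.lTensor_tmul, TensorProduct.rid_tmul]
    exact hf (b.coord i)
  refine ⟨a, fun R _ _ n₁ n₂ h₁ h₂ => ?_, ha.symm ▸ hf0⟩
  let m₁ : WithConv ((A ⧸ J) →ₐ[k] R) := toConv (Ideal.Quotient.liftₐ J n₁.ofConv (h₁.kills hJ))
  let m₂ : WithConv ((A ⧸ J) →ₐ[k] R) := toConv (Ideal.Quotient.liftₐ J n₂.ofConv (h₂.kills hJ))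
  have e₁ : ∀ x, m₁.ofConv (Ideal.Quotient.mkₐ k J x) = n₁.ofConv x := fun x => rfl
  have e₂ : ∀ x, m₂.ofConv (Ideal.Quotient.mkₐ k J x) = n₂.ofConv x := fun x => rfl
  have h := pre_mul (Bialgebra.Quotient.mkBialgHom (R := k) J) m₁ m₂
  have hm' := congrArg (fun z : WithConv (A →ₐ[k] R) => z.ofConv a) h
  change (m₁ * m₂).ofConv (Ideal.Quotient.mkₐ k J a) = (n₁ * n₂).ofConv a at hm'
  rw [← hm', ← e₁, ← e₂, ha, AlgHom.convMul_apply, hcomul]
  simp

include hψ hJ in
/-- An additive function on the kernel is a sum of eigenfunctions of the conjugation. -/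
theorem exists_eigen_decomp {a : A} (ha : Prim ψ a) :
    ∃ (s : Finset M) (a' : M → A), Ideal.Quotient.mkₐ k J a = ∑ μ ∈ s, Ideal.Quotient.mkₐ k J (a' μ) ∧
      ∀ μ ∈ s, Prim ψ (a' μ) ∧
      ∀ (R : Type u) [CommRing R] [Algebra k R] (g n : WithConv (A →ₐ[k] R)), IsKer ψ n →
        (pinv g * n * g).ofConv (a' μ) = ch d ψ g μ * n.ofConv (a' μ) := by
  classical
  let π := Ideal.Quotient.mkₐ k J
  let G : WithConv (A →ₐ[k] (A ⧸ J) ⊗[k] A) := toConv Algebra.TensorProduct.includeRight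
  let N : WithConv (A →ₐ[k] (A ⧸ J) ⊗[k] A) := toConv (Algebra.TensorProduct.includeLeft.comp π)
  let z := (pinv G * N * G).ofConv a
  have hev : ∀ (R : Type u) [CommRing R] [Algebra k R] (i : (A ⧸ J) →ₐ[k] R) (l : WithConv (A →ₐ[k] R)),
      Algebra.TensorProduct.lift i l.ofConv (fun _ _ => Commute.all _ _) z =
        (pinv l * toConv (i.comp π) * l).ofConv a := by
    intro R _ _ i l
    let φ := Algebra.TensorProduct.lift i l.ofConv (fun _ _ => Commute.all _ _)
    have e1 : toConv (φ.comp G.ofConv) = l := WithConv.ofConv_injective (AlgHom.ext fun x => by simp [φ, G])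
    have e2 : toConv (φ.comp N.ofConv) = toConv (i.comp π) :=
      WithConv.ofConv_injective (AlgHom.ext fun x => by simp [φ, N])
    have e3 : toConv (φ.comp (pinv G).ofConv) = pinv l :=
      (congrArg pinv e1 : pinv (toConv (φ.comp G.ofConv)) = pinv l)
    have h := congrArg (fun w : WithConv (A →ₐ[k] R) => w.ofConv a)
      (show toConv (φ.comp (pinv G * N * G).ofConv) = pinv l * toConv (i.comp π) * l by
        rw [post_mul, post_mul, e1, e2, e3])
    exact h
  obtain ⟨s, c, hc⟩ := exists_expansion d ψ hJ z fun R' _ _ i l n hn => by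
    rw [hev, hev, pinv_mul_rev']
    let x := pinv l * toConv (i.comp π) * l
    have hx : IsKer ψ x := ((isKer_mk J hJ).post i).conj l
    rw [show pinv n * pinv l * toConv (i.comp π) * (l * n) = pinv n * x * n by simp only [x, mul_assoc],
      ha R' _ _ (hn.pinv.mul hx) hn, ha R' _ _ hn.pinv hx, ha.pinv hn]
    ring
  choose aμ haμ using fun μ => Ideal.Quotient.mkₐ_surjective k J (c μ)
  -- expansion of the conjugation
  have hexp : ∀ (R : Type u) [CommRing R] [Algebra k R] (g n : WithConv (A →ₐ[k] R)), IsKer ψ n →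
      (pinv g * n * g).ofConv a = ∑ μ ∈ s, n.ofConv (aμ μ) * ch d ψ g μ := by
    intro R _ _ g n hn
    let i := Ideal.Quotient.liftₐ J n.ofConv (hn.kills hJ)
    have hi : toConv (i.comp π) = n := WithConv.ofConv_injective (AlgHom.ext fun x => rfl)
    have h := hev R i g
    rw [hc, hi] at h
    rw [← h]
    refine Finset.sum_congr rfl fun μ _ => ?_
    rw [← haμ μ]
    rfl
  have hsum : π a = ∑ μ ∈ s, π (aμ μ) := by
    have h := hexp (A ⧸ J) 1 (toConv π) (isKer_mk J hJ)
    rw [pinv_one, one_mul, mul_one] at h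
    refine h.trans (Finset.sum_congr rfl fun μ hμ => ?_)
    rw [ch_isKer IsKer.one, mul_one]
  refine ⟨s, aμ, hsum, fun μ hμ => ⟨fun R _ _ n₁ n₂ h₁ h₂ => ?_, fun R _ _ g n hn => ?_⟩⟩
  · refine sub_eq_zero.1 (coeff_unique d ψ hψ s
      (fun ν => (n₁ * n₂).ofConv (aμ ν) - (n₁.ofConv (aμ ν) + n₂.ofConv (aμ ν))) (fun R' _ _ i l => ?_) μ hμ)
    have h := ha R' _ _ ((h₁.post i).conj l) ((h₂.post i).conj l)
    rw [show pinv l * toConv (i.comp n₁.ofConv) * l * (pinv l * toConv (i.comp n₂.ofConv) * l) =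
      pinv l * (toConv (i.comp n₁.ofConv) * toConv (i.comp n₂.ofConv)) * l by
        simp only [mul_assoc]; rw [← mul_assoc l, mul_pinv, one_mul],
      ← post_mul, hexp _ _ _ ((h₁.mul h₂).post i), hexp _ _ _ (h₁.post i), hexp _ _ _ (h₂.post i)] at h
    simp only [map_sub, map_add, sub_mul, add_mul, Finset.sum_sub_distrib, Finset.sum_add_distrib]
    exact sub_eq_zero.2 h
  · refine sub_eq_zero.1 (coeff_unique d ψ hψ s
      (fun ν => (pinv g * n * g).ofConv (aμ ν) - ch d ψ g ν * n.ofConv (aμ ν)) (fun R' _ _ i l => ?_) μ hμ)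
    let g' := toConv (i.comp g.ofConv)
    let n' := toConv (i.comp n.ofConv)
    have h1 := hexp R' (g' * l) n' (hn.post i)
    have h2 := hexp R' l (pinv g' * n' * g') ((hn.post i).conj g')
    rw [pinv_mul_rev', show pinv l * pinv g' * n' * (g' * l) = pinv l * (pinv g' * n' * g') * l by
      simp only [mul_assoc], h2] at h1
    have e : toConv (i.comp (pinv g * n * g).ofConv) = pinv g' * n' * g' := by
      rw [post_mul, post_mul]
      rfl
    simp only [map_sub, map_mul, sub_mul, Finset.sum_sub_distrib]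
    refine sub_eq_zero.2 ?_
    calc ∑ ν ∈ s, i ((pinv g * n * g).ofConv (aμ ν)) * ch d ψ l ν
        = ∑ ν ∈ s, (pinv g' * n' * g').ofConv (aμ ν) * ch d ψ l ν := by rw [← e]; rfl
      _ = ∑ ν ∈ s, n'.ofConv (aμ ν) * ch d ψ (g' * l) ν := h1
      _ = _ := Finset.sum_congr rfl fun ν _ => by
          rw [ch_mul_pt, ch_post]
          show i (n.ofConv (aμ ν)) * (_ * _) = _
          ring
where
  pinv_mul_rev' {R : Type u} [CommRing R] [Algebra k R] {g h : WithConv (A →ₐ[k] R)} :
      pinv (g * h) = pinv h * pinv g :=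
    left_inv_eq_right_inv (pinv_mul (g * h)) (by rw [mul_assoc, ← mul_assoc h, mul_pinv h, one_mul, mul_pinv g])

include hψ hJ in
theorem exists_eigen {a : A} (ha : Prim ψ a) (ha0 : Ideal.Quotient.mkₐ k J a ≠ 0) :
    ∃ (a' : A) (μ : M), Prim ψ a' ∧ Ideal.Quotient.mkₐ k J a' ≠ 0 ∧
      ∀ (R : Type u) [CommRing R] [Algebra k R] (g n : WithConv (A →ₐ[k] R)), IsKer ψ n →
        (pinv g * n * g).ofConv a' = ch d ψ g μ * n.ofConv a' := by
  obtain ⟨s, a', hsum, hs⟩ := exists_eigen_decomp d ψ hψ hJ ha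
  obtain ⟨μ, hμ, hμ0⟩ := Finset.exists_ne_zero_of_sum_ne_zero (hsum ▸ ha0)
  exact ⟨a' μ, μ, (hs μ hμ).1, hμ0, (hs μ hμ).2⟩

theorem mul_mul_pinv_mul {R : Type u} [CommRing R] [Algebra k R] (a b c : WithConv (A →ₐ[k] R)) :
    a * b * (pinv b * c) = a * c := by
  rw [mul_assoc, ← mul_assoc b, mul_pinv, one_mul]

/-- A lift to `A` of an additive function on the kernel. -/
theorem exists_torsor_lift {C : Type u} [CommRing C] [Algebra k C] [Algebra C A] [IsScalarTower k C A]
    [Module.FaithfullyFlat C A] (hC₁ : ∀ x : C, ∃ b, ψ b = algebraMap C A x)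
    (hC₂ : ∀ b, ∃ x : C, algebraMap C A x = ψ b) {a : A} (ha : Prim ψ a) :
    ∃ G : A, ∀ (R : Type u) [CommRing R] [Algebra k R] (g n : WithConv (A →ₐ[k] R)),
      IsKer ψ n → (g * n).ofConv G = g.ofConv G + n.ofConv a := by
  let p1 : A →ₐ[k] A ⊗[C] A := (Algebra.TensorProduct.includeLeft : A →ₐ[C] A ⊗[C] A).restrictScalars k
  let p2 : A →ₐ[k] A ⊗[C] A := (Algebra.TensorProduct.includeRight : A →ₐ[C] A ⊗[C] A).restrictScalars k
  have hagree : ∀ b, p1 (ψ b) = p2 (ψ b) := fun b =>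
    by
      obtain ⟨x, hx⟩ := hC₂ b
      rw [← hx]
      exact Algebra.TensorProduct.tmul_one_eq_one_tmul (R := C) (A := A) (B := A) x
  have hker : IsKer ψ (pinv (toConv p1) * toConv p2) := isKer_of_agree _ _ hagree
  let c := (pinv (toConv p1) * toConv p2).ofConv a
  obtain ⟨G, hG⟩ : ∃ G, c = (1 : A) ⊗ₜ[C] G - G ⊗ₜ[C] (1 : A) := by
    refine exists_sub_eq_algHom (C := C) (D := A) (c := c) ?_
    let e23 : A ⊗[C] A →ₐ[C] A ⊗[C] (A ⊗[C] A) := Algebra.TensorProduct.includeRight
    let e13 : A ⊗[C] A →ₐ[C] A ⊗[C] (A ⊗[C] A) :=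
      Algebra.TensorProduct.map (AlgHom.id C A) Algebra.TensorProduct.includeRight
    let e12 : A ⊗[C] A →ₐ[C] A ⊗[C] (A ⊗[C] A) :=
      Algebra.TensorProduct.map (AlgHom.id C A) Algebra.TensorProduct.includeLeft
    let f23 := e23.restrictScalars k
    let f13 := e13.restrictScalars k
    let f12 := e12.restrictScalars k
    have key : toConv (f12.comp (pinv (toConv p1) * toConv p2).ofConv) *
        toConv (f23.comp (pinv (toConv p1) * toConv p2).ofConv) =
        toConv (f13.comp (pinv (toConv p1) * toConv p2).ofConv) := by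
      rw [post_mul, post_mul, post_mul]
      have q2 : toConv (f12.comp p2) = toConv (f23.comp p1) :=
        WithConv.ofConv_injective (AlgHom.ext fun x => by simp [f12, f23, e12, e23, p1, p2])
      have q1 : toConv (f12.comp (pinv (toConv p1)).ofConv) = toConv (f13.comp (pinv (toConv p1)).ofConv) :=
        WithConv.ofConv_injective (AlgHom.ext fun x => by simp [f12, f13, e12, e13, p1, pinv])
      have q3 : toConv (f23.comp p2) = toConv (f13.comp p2) :=
        WithConv.ofConv_injective (AlgHom.ext fun x => by simp [f23, f13, e23, e13, p2])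
      have q4 : toConv (f23.comp (pinv (toConv p1)).ofConv) = pinv (toConv (f23.comp p1)) := rfl
      simp only [ofConv_toConv] at *
      rw [q2, q1, q3, q4]
      exact mul_mul_pinv_mul _ _ _
    have h := ha _ _ _ (hker.post f12) (hker.post f23)
    rw [key] at h
    exact h
  refine ⟨G, fun R _ _ g n hn => ?_⟩
  letI : Algebra C R := (g.ofConv.toRingHom.comp (algebraMap C A)).toAlgebra
  have hgn : ∀ b, (g * n).ofConv (ψ b) = g.ofConv (ψ b) := by
    intro b
    have h := pre_mul ψ g n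
    rw [show toConv (n.ofConv.comp (ψ : B →ₐ[k] A)) = 1 from hn, mul_one] at h
    exact congrArg (fun w : WithConv (B →ₐ[k] R) => w.ofConv b) h
  let gC : A →ₐ[C] R := { g.ofConv.toRingHom with commutes' := fun x => rfl }
  let gnC : A →ₐ[C] R := { (g * n).ofConv.toRingHom with
    commutes' := fun x => by
      obtain ⟨b, hb⟩ := hC₁ x
      show (g * n).ofConv (algebraMap C A x) = g.ofConv (algebraMap C A x)
      rw [← hb]
      exact hgn b }
  haveI : IsScalarTower k C R := IsScalarTower.of_algebraMap_eq fun x => by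
    show algebraMap k R x = g.ofConv (algebraMap C A (algebraMap k C x))
    rw [← IsScalarTower.algebraMap_apply, g.ofConv.commutes]
  let φ := (Algebra.TensorProduct.lift gC gnC fun _ _ => Commute.all _ _).restrictScalars k
  have h1 : φ c = n.ofConv a := by
    have e : toConv (φ.comp (pinv (toConv p1) * toConv p2).ofConv) = n := by
      rw [post_mul,
        show toConv (φ.comp (toConv p2).ofConv) = g * n from
          WithConv.ofConv_injective (AlgHom.ext fun x => by simp [φ, p2, gC, gnC]),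
        show toConv (φ.comp (pinv (toConv p1)).ofConv) = pinv g from
          WithConv.ofConv_injective (AlgHom.ext fun x => by simp [φ, p1, gC, gnC, pinv]),
        ← mul_assoc, pinv_mul, one_mul]
    exact congrArg (fun w : WithConv (A →ₐ[k] R) => w.ofConv a) e
  rw [hG, map_sub] at h1
  simp [φ, gC, gnC] at h1
  rw [← h1]
  abel

include hψ hJ in
theorem exists_crossed {a : A} {μ : M} (ha : Prim ψ a)
    (heig : ∀ (R : Type u) [CommRing R] [Algebra k R] (g n : WithConv (A →ₐ[k] R)), IsKer ψ n →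
      (pinv g * n * g).ofConv a = ch d ψ g μ * n.ofConv a) :
    ∃ F : A, (∀ (R : Type u) [CommRing R] [Algebra k R] (g h : WithConv (A →ₐ[k] R)),
        (g * h).ofConv F = g.ofConv F + ch d ψ g μ⁻¹ * h.ofConv F) ∧
      ∀ (R : Type u) [CommRing R] [Algebra k R] (n : WithConv (A →ₐ[k] R)), IsKer ψ n →
        n.ofConv F = n.ofConv a := by
  classical
  -- a function restricting to `a` on the orbits of the kernel
  obtain ⟨G, hG⟩ : ∃ G : A, ∀ (R : Type u) [CommRing R] [Algebra k R] (g n : WithConv (A →ₐ[k] R)),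
      IsKer ψ n → (g * n).ofConv G = g.ofConv G + n.ofConv a := by
    haveI : Module.FaithfullyFlat (ψ : B →ₐ[k] A).range A :=
      Groth.L25.HopfFlat.faithfullyFlat _ (Groth.L25.UnipExt.isHopfSubalgebra_range ψ)
    refine exists_torsor_lift ψ (C := (ψ : B →ₐ[k] A).range) (fun x => ?_) (fun b => ⟨⟨ψ b, b, rfl⟩, rfl⟩) ha
    obtain ⟨_, b, rfl⟩ := x
    exact ⟨b, rfl⟩
  let χ := ψ (d.b μ⁻¹)
  let F₀ := χ * G
  have hF₀ : ∀ (R : Type u) [CommRing R] [Algebra k R] (g n : WithConv (A →ₐ[k] R)), IsKer ψ n →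
      (g * n).ofConv F₀ = g.ofConv F₀ + ch d ψ g μ⁻¹ * n.ofConv a := by
    intro R _ _ g n hn
    show (g * n).ofConv (χ * G) = g.ofConv (χ * G) + _
    rw [map_mul, map_mul, hG R g n hn]
    show ch d ψ (g * n) μ⁻¹ * _ = ch d ψ g μ⁻¹ * _ + _
    rw [ch_mul_pt, ch_isKer hn, mul_one]
    ring
  -- the cocycle
  let z : A ⊗[k] A := Coalgebra.comul (R := k) F₀ - F₀ ⊗ₜ[k] (1 : A) - χ ⊗ₜ[k] F₀
  have hev : ∀ (R : Type u) [CommRing R] [Algebra k R] (g h : WithConv (A →ₐ[k] R)),
      Algebra.TensorProduct.lift g.ofConv h.ofConv (fun _ _ => Commute.all _ _) z =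
        (g * h).ofConv F₀ - g.ofConv F₀ - ch d ψ g μ⁻¹ * h.ofConv F₀ := by
    intro R _ _ g h
    simp only [z, map_sub, Algebra.TensorProduct.lift_tmul, map_one, mul_one, AlgHom.convMul_apply]
    congr 2
  obtain ⟨s, c, hc⟩ := exists_expansion d ψ hJ z fun R' _ _ i l n hn => by
    rw [show i = (toConv i).ofConv from rfl, hev, hev, ← mul_assoc, hF₀ _ _ n hn, hF₀ _ _ n hn, ch_mul_pt]
    ring
  have hci : ∀ (R : Type u) [CommRing R] [Algebra k R] (g n : WithConv (A →ₐ[k] R)), IsKer ψ n →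
      ∀ ν ∈ s, (g * n).ofConv (c ν) = g.ofConv (c ν) := by
    intro R _ _ g n hn ν hν
    refine sub_eq_zero.1 (coeff_unique d ψ hψ s (fun ν => (g * n).ofConv (c ν) - g.ofConv (c ν))
      (fun R' _ _ i l => ?_) ν hν)
    let g' := toConv (i.comp g.ofConv)
    let n' := toConv (i.comp n.ofConv)
    have hn' : IsKer ψ n' := hn.post i
    have hswap : g' * n' * l = g' * l * (pinv l * n' * l) := by
      simp only [mul_assoc]
      rw [← mul_assoc l, mul_pinv, one_mul]
    have h1 := hc R' (g' * n').ofConv l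
    have h2 := hc R' g'.ofConv l
    rw [hev, hswap, hF₀ _ _ _ (hn'.conj l), hF₀ _ _ _ hn', heig _ _ _ hn', ch_mul_pt, ch_mul_pt,
      ch_isKer hn'] at h1
    rw [hev] at h2
    simp only [map_sub, sub_mul, Finset.sum_sub_distrib]
    rw [show (∑ ν ∈ s, i ((g * n).ofConv (c ν)) * ch d ψ l ν) = ∑ ν ∈ s, (g' * n').ofConv (c ν) * ch d ψ l ν from
        Finset.sum_congr rfl fun ν _ => by rw [← post_mul]; rfl,
      show (∑ ν ∈ s, i (g.ofConv (c ν)) * ch d ψ l ν) = ∑ ν ∈ s, g'.ofConv (c ν) * ch d ψ l ν from rfl,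
      ← h1, ← h2]
    linear_combination (ch d ψ g' μ⁻¹ * n'.ofConv a) * (ch_inv_mul (d := d) (ψ := ψ) l μ)
  let y : A := if (1 : M) ∈ s then c 1 else 0
  have hy : ∀ (R : Type u) [CommRing R] [Algebra k R] (g h : WithConv (A →ₐ[k] R)),
      (g * h).ofConv y - g.ofConv y - ch d ψ g μ⁻¹ * h.ofConv y +
        ((g * h).ofConv F₀ - g.ofConv F₀ - ch d ψ g μ⁻¹ * h.ofConv F₀) = 0 := by
    intro R _ _ g h
    let Z := (g * h).ofConv F₀ - g.ofConv F₀ - ch d ψ g μ⁻¹ * h.ofConv F₀
    let e : M → R := fun ν => (if ν ∈ s then (g * h).ofConv (c ν) - g.ofConv (c ν) * ch d ψ h ν -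
      ch d ψ g μ⁻¹ * h.ofConv (c ν) else 0) + if ν = 1 then Z else 0
    have h0 := coeff_unique d ψ hψ (insert 1 s) e (fun R' _ _ i l => ?_) 1 (Finset.mem_insert_self _ _)
    · simp only [e, if_pos rfl, ch_one, mul_one] at h0
      show (g * h).ofConv y - g.ofConv y - ch d ψ g μ⁻¹ * h.ofConv y + Z = 0
      simp only [y]
      by_cases h1 : (1 : M) ∈ s
      · rw [if_pos h1] at h0 ⊢
        exact h0
      · rw [if_neg h1] at h0 ⊢
        simp only [map_zero, mul_zero, sub_zero]
        exact h0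
    · let g' := toConv (i.comp g.ofConv)
      let h' := toConv (i.comp h.ofConv)
      have hsum : ∑ ν ∈ insert 1 s, i (e ν) * ch d ψ l ν =
          (∑ ν ∈ s, ((g' * h').ofConv (c ν) * ch d ψ l ν - g'.ofConv (c ν) * ch d ψ (h' * l) ν -
            ch d ψ g' μ⁻¹ * (h'.ofConv (c ν) * ch d ψ l ν))) + i Z := by
        simp only [e, map_add, add_mul, Finset.sum_add_distrib]
        congr 1
        · rw [← Finset.sum_subset (Finset.subset_insert 1 s) fun ν _ hν => by rw [if_neg hν, map_zero, zero_mul]]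
          refine Finset.sum_congr rfl fun ν hν => ?_
          rw [if_pos hν, map_sub, map_sub, map_mul, map_mul, ch_mul_pt, ch_post i g, ch_post i h,
            show i ((g * h).ofConv (c ν)) = (g' * h').ofConv (c ν) by rw [← post_mul]; rfl]
          show _ = _ - i (g.ofConv (c ν)) * (ch d ψ h' ν * ch d ψ l ν) -
            ch d ψ g' μ⁻¹ * (i (h.ofConv (c ν)) * ch d ψ l ν)
          ring
        · rw [Finset.sum_eq_single 1 (fun ν _ hν => by rw [if_neg hν, map_zero, zero_mul])
            (fun hh => absurd (Finset.mem_insert_self _ _) hh), if_pos rfl, ch_one, mul_one]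
      rw [hsum, Finset.sum_sub_distrib, Finset.sum_sub_distrib, ← Finset.mul_sum]
      have h1 := hc R' (g' * h').ofConv l
      have h2 := hc R' g'.ofConv (h' * l)
      have h3 := hc R' h'.ofConv l
      rw [hev] at h1 h2 h3
      rw [← h1, ← h2, ← h3]
      have hZ : i Z = (g' * h').ofConv F₀ - g'.ofConv F₀ - ch d ψ g' μ⁻¹ * h'.ofConv F₀ := by
        simp only [Z, map_sub, map_mul, ch_post i g]
        rw [show i ((g * h).ofConv F₀) = (g' * h').ofConv F₀ by rw [← post_mul]; rfl]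
        rfl
      rw [hZ, mul_assoc g' h' l, ch_mul_pt g' h']
      ring
  have hcr : ∀ (R : Type u) [CommRing R] [Algebra k R] (g h : WithConv (A →ₐ[k] R)),
      (g * h).ofConv (F₀ + y) = g.ofConv (F₀ + y) + ch d ψ g μ⁻¹ * h.ofConv (F₀ + y) := by
    intro R _ _ g h
    simp only [map_add]
    linear_combination hy R g h
  refine ⟨F₀ + y, hcr, fun R _ _ n hn => ?_⟩
  have h1 : (1 : WithConv (A →ₐ[k] R)).ofConv (F₀ + y) = 0 := by
    have := hcr R 1 1
    rwa [one_mul, ch_isKer IsKer.one, one_mul, left_eq_add] at this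
  rw [map_add] at h1
  have hyn : n.ofConv y = (1 : WithConv (A →ₐ[k] R)).ofConv y := by
    simp only [y]
    split_ifs with hs
    · have := hci R 1 n hn 1 hs
      rwa [one_mul] at this
    · simp
  have hFn := hF₀ R 1 n hn
  rw [one_mul, ch_isKer IsKer.one, one_mul] at hFn
  rw [map_add, hyn, hFn]
  linear_combination h1

end Groth.L01.UnipSplit
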